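import Mathlib
import Cfsg.Agent.CharactersDeep.BergerGroup
import Cfsg.Agent.OddOrderCharacters.NilpotentIndex
import Cfsg.Agent.H404.Nse
set_option linter.all false

/-!
# Groups in which the product of two `p`-elements is a `p`-element

Group theoretic lemmas for the theorem on nonnormal Sylow subgroups of solvable linear groups.
-/

set_option autoImplicit false

namespace Cfsg.Agent.H598.PElem

open Subgroup
open scoped commutatorElement

/-- `n` has a prime power divisor congruent to `-1`, `0` or `1`. -/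
def W (p n : ℕ) : Prop := ∃ q : ℕ, IsPrimePow q ∧ q ∣ n ∧
  ((q : ℤ) ≡ -1 [ZMOD p] ∨ (q : ℤ) ≡ 0 [ZMOD p] ∨ (q : ℤ) ≡ 1 [ZMOD p])

theorem W.mono {p m n : ℕ} (h : W p m) (hd : m ∣ n) : W p n := by
  obtain ⟨q, h1, h2, h3⟩ := h
  exact ⟨q, h1, h2.trans hd, h3⟩

theorem W.of_dvd {p n : ℕ} (hp : p.Prime) (h : p ∣ n) : W p n :=
  ⟨p, hp.isPrimePow, h, Or.inr (Or.inl (by
    rw [Int.modEq_zero_iff_dvd]))⟩

universe u
variable {G : Type u} [Group G]

/-- `p`-elements -/
def PE (p : ℕ) (x : G) : Prop := ∃ k : ℕ, x ^ p ^ k = 1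

theorem PE.map {p : ℕ} {x : G} (h : PE p x) {H : Type*} [Group H] (f : G →* H) : PE p (f x) := by
  obtain ⟨k, hk⟩ := h
  exact ⟨k, by rw [← map_pow, hk, map_one]⟩

theorem PE.inv {p : ℕ} {x : G} (h : PE p x) : PE p x⁻¹ := by
  obtain ⟨k, hk⟩ := h
  exact ⟨k, by rw [inv_pow, hk, inv_one]⟩

theorem PE.conj {p : ℕ} {x : G} (h : PE p x) (g : G) : PE p (g * x * g⁻¹) := by
  obtain ⟨k, hk⟩ := h
  exact ⟨k, by rw [conj_pow, hk, mul_one, mul_inv_cancel]⟩

theorem PE.subgroup {p : ℕ} {N : Subgroup G} {x : N} : PE p x ↔ PE p (x : G) := by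
  constructor
  · rintro ⟨k, hk⟩
    exact ⟨k, by rw [← Subgroup.coe_pow, hk, Subgroup.coe_one]⟩
  · rintro ⟨k, hk⟩
    exact ⟨k, Subtype.ext (by rw [Subgroup.coe_pow, hk, Subgroup.coe_one])⟩

theorem PE.eq_one [Finite G] {p : ℕ} {x : G} (h : PE p x) {K : Subgroup G} (hx : x ∈ K)
    (hK : (Nat.card K).Coprime p) : x = 1 := by
  obtain ⟨k, hk⟩ := h
  have h1 : orderOf x ∣ p ^ k := orderOf_dvd_of_pow_eq_one hk
  have h2 : orderOf x ∣ Nat.card K := Subgroup.orderOf_dvd_natCard K hx
  have h3 : orderOf x = 1 := Nat.eq_one_of_dvd_coprimes (hK.pow_right k) h2 h1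
  exact orderOf_eq_one_iff.1 h3

theorem PE.isPGroup_zpowers {p : ℕ} [Fact p.Prime] {x : G} (h : PE p x) :
    IsPGroup p (zpowers x) := by
  rintro ⟨y, hy⟩
  obtain ⟨j, rfl⟩ := mem_zpowers_iff.1 hy
  obtain ⟨k, hk⟩ := h
  exact ⟨k, Subtype.ext (by
    rw [Subgroup.coe_pow, Subgroup.coe_one]
    show (x ^ j) ^ p ^ k = 1
    rw [← zpow_natCast, ← zpow_mul, mul_comm, zpow_mul, zpow_natCast, hk, one_zpow])⟩

theorem PE.of_isPGroup {p : ℕ} {P : Subgroup G} (h : IsPGroup p P) {x : G} (hx : x ∈ P) :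
    PE p x := by
  obtain ⟨k, hk⟩ := h ⟨x, hx⟩
  exact ⟨k, congrArg Subtype.val hk⟩

/-- A normal Sylow subgroup contains all `p`-elements. -/
theorem PE.mem_of_normal [Finite G] {p : ℕ} [Fact p.Prime] (P : Sylow p G)
    [hP : (P : Subgroup G).Normal] {x : G} (hx : PE p x) : x ∈ P := by
  have h1 : IsPGroup p (zpowers x ⊔ (P : Subgroup G) : Subgroup G) :=
    hx.isPGroup_zpowers.to_sup_of_normal_right P.2
  have h2 := P.3 h1 le_sup_right
  have h3 : x ∈ zpowers x ⊔ (P : Subgroup G) := (le_sup_left : _ ≤ zpowers x ⊔ _) (mem_zpowers x)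
  rw [h2] at h3
  exact h3

/-- the `p`-elements are closed under multiplication -/
def Cl (p : ℕ) (G : Type u) [Group G] : Prop := ∀ x y : G, PE p x → PE p y → PE p (x * y)

theorem Cl.of_normal [Finite G] {p : ℕ} [Fact p.Prime] (P : Sylow p G)
    (hP : (P : Subgroup G).Normal) : Cl p G := fun _ _ hx hy =>
  PE.of_isPGroup P.2 ((P : Subgroup G).mul_mem (PE.mem_of_normal P hx) (PE.mem_of_normal P hy))

theorem Cl.normal [Finite G] {p : ℕ} [Fact p.Prime] (h : Cl p G) (P : Sylow p G) :
    (P : Subgroup G).Normal := by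
  let S : Subgroup G :=
    { carrier := {x | PE p x}
      mul_mem' := fun {a b} ha hb => h a b ha hb
      one_mem' := ⟨0, one_pow _⟩
      inv_mem' := fun {a} ha => PE.inv ha }
  have h1 : IsPGroup p S := by
    rintro ⟨x, k, hk⟩
    exact ⟨k, Subtype.ext hk⟩
  have h2 : (P : Subgroup G) ≤ S := fun x hx => PE.of_isPGroup P.2 hx
  have h3 := P.3 h1 h2
  constructor
  intro x hx g
  have h4 : g * x * g⁻¹ ∈ S := (PE.of_isPGroup P.2 hx).conj g
  rw [h3] at h4
  exact h4

/-- Sylow subgroups centralizing a normal subgroup of `p`-power index are normal. -/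
theorem Cl.of_centralize [Finite G] {p : ℕ} [hp : Fact p.Prime] (K : Subgroup G) {a : ℕ}
    (hi : K.index = p ^ a) (P : Sylow p G) (h : ∀ x ∈ P, ∀ k ∈ K, x * k = k * x) : Cl p G := by
  have h1 : K ≤ normalizer ((P : Subgroup G) : Set G) := by
    intro k hk
    rw [mem_normalizer_iff]
    intro x
    constructor
    · intro hx
      rw [← h x hx k hk, mul_inv_cancel_right]
      exact hx
    · intro hx
      have h2 := h _ hx k hk
      have h3 : k * x * k⁻¹ = x := by
        have h4 : k * x * k⁻¹ * k = k * (k * x * k⁻¹) := h2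
        have h5 : k * x = k * (k * x * k⁻¹) := by rw [← h4]; group
        exact (mul_left_cancel h5).symm
      rw [h3] at hx
      exact hx
  have h2 : (P : Subgroup G) ≤ normalizer ((P : Subgroup G) : Set G) := le_normalizer
  have h3 : (normalizer ((P : Subgroup G) : Set G)).index = 1 := by
    have e1 : (normalizer ((P : Subgroup G) : Set G)).index ∣ p ^ a := by
      rw [← hi]; exact index_dvd_of_le h1
    have e2 : (normalizer ((P : Subgroup G) : Set G)).index ∣ (P : Subgroup G).index :=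
      index_dvd_of_le h2
    exact Nat.eq_one_of_dvd_coprimes
      (((hp.1.coprime_iff_not_dvd).2 P.not_dvd_index).symm.pow_right a) e2 e1
  rw [index_eq_one] at h3
  exact Cl.of_normal P (normalizer_eq_top_iff.1 h3)

/-- If a `p`-element commutes with the `p'`-element `[x, k]` then it is trivial. -/
theorem comm_eq_one [Finite G] {p : ℕ} {x k : G} (hx : PE p x) {K : Subgroup G}
    (hK : (Nat.card K).Coprime p) (hc : x * k * x⁻¹ * k⁻¹ ∈ K)
    (hxc : x * (x * k * x⁻¹ * k⁻¹) = (x * k * x⁻¹ * k⁻¹) * x) : x * k = k * x := by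
  set c := x * k * x⁻¹ * k⁻¹ with hcdef
  have h1 : ∀ j : ℕ, x ^ j * k * (x ^ j)⁻¹ = c ^ j * k := by
    intro j
    induction j with
    | zero => simp
    | succ j ih =>
      have h2 : x * c ^ j = c ^ j * x := ((show Commute x c from hxc).pow_right j)
      calc x ^ (j + 1) * k * (x ^ (j + 1))⁻¹ = x * (x ^ j * k * (x ^ j)⁻¹) * x⁻¹ := by
            rw [pow_succ']; group
        _ = x * (c ^ j * k) * x⁻¹ := by rw [ih]
        _ = (x * c ^ j) * k * x⁻¹ := by group
        _ = (c ^ j * x) * k * x⁻¹ := by rw [h2]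
        _ = c ^ j * (x * k * x⁻¹ * k⁻¹) * k := by group
        _ = c ^ (j + 1) * k := by rw [← hcdef, pow_succ]
  obtain ⟨a, ha⟩ := hx
  have h2 := h1 (p ^ a)
  rw [ha, one_mul, inv_one, mul_one] at h2
  have h3 : c ^ p ^ a = 1 := by
    have h4 : 1 * k = c ^ p ^ a * k := by rw [one_mul]; exact h2
    exact (mul_right_cancel h4).symm
  have h4 : c = 1 := PE.eq_one ⟨a, h3⟩ hc hK
  rw [hcdef] at h4
  have h5 : x * k * x⁻¹ = k := mul_inv_eq_one.1 h4
  exact mul_inv_eq_iff_eq_mul.1 h5

/-- A core-free maximal subgroup of a solvable group with a nontrivial `p`-element. -/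
theorem W_of_coreFree {Q : Type u} [Group Q] [Finite Q] [Group.IsSolvable Q] (K : Subgroup Q)
    (hK : IsCoatom K) (hcore : K.normalCore = ⊥) {p : ℕ} (hp : p.Prime) {x : Q} (hx : PE p x)
    (hx1 : x ≠ 1) : W p K.index := by
  obtain ⟨r, M, hr, hMn, hMb, hMc, hMr, hMcard, hMdec, hMU, -⟩ :=
    CharactersDeep.BergerGroup.exists_setup_coreFree K hK hcore
  have := Fact.mk hp
  have := Fact.mk hr
  obtain ⟨a, ha⟩ := IsPGroup.iff_card.1 hMr
  have ha0 : a ≠ 0 := by
    rintro rfl
    rw [pow_zero] at ha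
    exact hMb (Subgroup.card_eq_one.1 ha)
  by_cases hrp : r = p
  · subst hrp
    apply W.of_dvd hp
    rw [← hMcard, ha]
    exact dvd_pow_self _ ha0
  -- `x` does not centralize `M`
  have hcoM : (Nat.card M).Coprime p := by
    rw [ha]
    exact Nat.Coprime.pow_left _ ((Nat.coprime_primes hr hp).2 hrp)
  have hU : K ⊓ centralizer (M : Set Q) = ⊥ := by
    refine hMU _ inf_le_left ?_ ?_
    · intro h hh u hu
      exact mem_inf.2 ⟨K.mul_mem (K.mul_mem hh (mem_inf.1 hu).1) (K.inv_mem hh),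
        (inferInstance : (centralizer (M : Set Q)).Normal).conj_mem u (mem_inf.1 hu).2 h⟩
    · intro m hm u hu
      exact (mem_centralizer_iff.1 (mem_inf.1 hu).2 m hm)
  have hxM : x ∉ centralizer (M : Set Q) := by
    intro hxc
    obtain ⟨m, hm, h, hh, hxe⟩ := hMdec x
    have h1 : h ∈ K ⊓ centralizer (M : Set Q) := by
      refine mem_inf.2 ⟨hh, ?_⟩
      have h2 : h = m⁻¹ * x := by rw [hxe]; group
      rw [h2]
      exact mul_mem (inv_mem (mem_centralizer_iff.2 fun y hy => hMc y hy m hm)) hxc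
    rw [hU, mem_bot] at h1
    rw [h1, mul_one] at hxe
    rw [← hxe] at hm
    exact hx1 (hx.eq_one hm hcoM)
  have hmod := H404.Nse.card_modEq_card_inf_centralizer (p := p) (zpowers x) M
    hx.isPGroup_zpowers (fun y _ g hg => hMn.conj_mem g hg y)
  have hlt : M ⊓ centralizer (zpowers x : Set Q) < M := by
    refine lt_of_le_of_ne inf_le_left fun h => hxM ?_
    rw [mem_centralizer_iff]
    intro m hm
    rw [← h] at hm
    exact (mem_centralizer_iff.1 (mem_inf.1 hm).2 x (mem_zpowers x)).symm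
  obtain ⟨c, hc, hcc⟩ : ∃ c ≤ a, Nat.card (M ⊓ centralizer (zpowers x : Set Q) : Subgroup Q)
      = r ^ c := by
    rw [← Nat.dvd_prime_pow hr, ← ha]
    exact card_dvd_of_le inf_le_left
  have hca : c ≠ a := by
    rintro rfl
    exact hlt.ne (Subgroup.eq_of_le_of_card_ge inf_le_left (by rw [hcc, ha]))
  rw [hcc, ha] at hmod
  refine ⟨r ^ (a - c), hr.isPrimePow.pow (by omega), ?_, Or.inr (Or.inr ?_)⟩
  · rw [← hMcard, ha]
    exact pow_dvd_pow _ (by omega)
  · have h1 : r ^ c * r ^ (a - c) ≡ r ^ c * 1 [MOD p] := by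
      rw [← pow_add, mul_one, Nat.add_sub_cancel' hc]
      exact hmod
    have h2 : Nat.gcd p (r ^ c) = 1 :=
      Nat.Coprime.pow_right _ ((Nat.coprime_primes hp hr).2 (Ne.symm hrp))
    have h3 := Nat.ModEq.cancel_left_of_coprime h2 h1
    have h4 := (Int.natCast_modEq_iff (n := p)).2 h3
    simpa using h4

/-- In a solvable group, a proper subgroup whose index has no suitable prime power divisor gives a
proper normal subgroup containing all `p`-elements. -/
theorem exists_normal_of_index [Finite G] [Group.IsSolvable G] {H : Subgroup G} (hH : H ≠ ⊤)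
    {p : ℕ} (hp : p.Prime) (hW : ¬ W p H.index) :
    ∃ L : Subgroup G, L.Normal ∧ L ≠ ⊤ ∧ ∀ x : G, PE p x → x ∈ L := by
  obtain ⟨J, hJ, hHJ⟩ := (eq_top_or_exists_le_coatom H).resolve_left hH
  have hWJ : ¬ W p J.index := fun h => hW (h.mono (index_dvd_of_le hHJ))
  refine ⟨J.normalCore, inferInstance, ?_, ?_⟩
  · intro h
    have h1 := J.normalCore_le
    rw [h] at h1
    exact hJ.1 (top_le_iff.1 h1)
  intro x hx
  by_contra hxL
  apply hWJ
  obtain ⟨L, hL, hLn⟩ : ∃ L : Subgroup G, J.normalCore = L ∧ L.Normal := ⟨_, rfl, inferInstance⟩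
  rw [hL] at hxL
  have hLJ : L ≤ J := hL ▸ J.normalCore_le
  set π := QuotientGroup.mk' L with hπdef
  have hπ : Function.Surjective π := QuotientGroup.mk'_surjective L
  have hker : π.ker = L := QuotientGroup.ker_mk' L
  have hcm : (J.map π).comap π = J := by
    rw [Subgroup.comap_map_eq, hker]
    exact sup_eq_left.mpr hLJ
  have hmc : ∀ A : Subgroup (G ⧸ L), (A.comap π).map π = A := fun A =>
    Subgroup.map_comap_eq_self_of_surjective hπ A
  have hco : IsCoatom (J.map π) := by
    constructor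
    · intro h
      apply hJ.1
      rw [← hcm, h, Subgroup.comap_top]
    · intro A hA
      have h1 : J < A.comap π := by
        rw [← hcm]
        exact (Subgroup.comap_lt_comap_of_surjective hπ).mpr hA
      have h2 := hJ.2 _ h1
      rw [← hmc A, h2]
      exact Subgroup.map_top_of_surjective π hπ
  have hcore : (J.map π).normalCore = ⊥ := by
    have h1 : ((J.map π).normalCore.comap π) ≤ L := by
      have : ((J.map π).normalCore.comap π).Normal := inferInstance
      refine le_trans ((normal_le_normalCore (H := J)).mpr ?_) hL.le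
      calc (J.map π).normalCore.comap π ≤ (J.map π).comap π :=
            Subgroup.comap_mono (J.map π).normalCore_le
        _ = J := hcm
    rw [eq_bot_iff, ← hmc (J.map π).normalCore]
    calc ((J.map π).normalCore.comap π).map π ≤ L.map π := Subgroup.map_mono h1
      _ ≤ ⊥ := by
        rintro _ ⟨y, hy, rfl⟩
        exact (QuotientGroup.eq_one_iff y).2 hy
  have hi : (J.map π).index = J.index := by
    conv_rhs => rw [← hcm]
    exact (Subgroup.index_comap_of_surjective _ hπ).symm
  have hs : Group.IsSolvable (G ⧸ L) := inferInstance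
  rw [← hi]
  exact W_of_coreFree (J.map π) hco hcore hp (hx.map π) (fun h1 => hxL (by
    rw [← hker, MonoidHom.mem_ker]; exact h1))

/-- Chief factors of solvable groups are abelian. -/
theorem commutator_le_of_chief [Group.IsSolvable G] (K M : Subgroup G) [hKn : K.Normal]
    [hMn : M.Normal] (hMK : M < K)
    (hchief : ∀ A : Subgroup G, A.Normal → M ≤ A → A ≤ K → A = M ∨ A = K) : ⁅K, K⁆ ≤ M := by
  rcases hchief (⁅K, K⁆ ⊔ M) inferInstance le_sup_right
    (sup_le (commutator_le_left K K) hMK.le) with h | h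
  · rw [← h]; exact le_sup_left
  · exfalso
    set π := QuotientGroup.mk' M with hπ
    have hs : Group.IsSolvable (G ⧸ M) := inferInstance
    have h1 : K.map π ≠ ⊥ := by
      intro h2
      rw [Subgroup.map_eq_bot_iff, QuotientGroup.ker_mk'] at h2
      exact hMK.not_ge h2
    have h2 := Group.IsSolvable.commutator_lt_of_ne_bot h1
    apply h2.ne
    rw [← Subgroup.map_commutator]
    apply le_antisymm (Subgroup.map_mono (commutator_le_left K K))
    conv_lhs => rw [← h]
    rw [Subgroup.map_sup, QuotientGroup.map_mk'_self, sup_bot_eq]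

end Cfsg.Agent.H598.PElem
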