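import Mathlib
import Cfsg.Agent.H591.Cliff
import Cfsg.Agent.H597.Taketa
import Cfsg.Agent.H597.IndexP
import Cfsg.Agent.H597.FrobC
import Cfsg.Agent.H597.ThreeDegC
import Cfsg.Agent.H598.PElem
import Cfsg.Agent.Characters.CNBasic
import Cfsg.Agent.H597.ThreeDegB
import Cfsg.Agent.H597.ThreeDegA
import Cfsg.Agent.S4456
import Cfsg.Prelude.Def_DegreeGraph
set_option linter.all false

-- part: H598/FourCore
section
/-!
# Characters attached to a noncentral section of the kernel quotient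

`ψ` an irreducible character of the solvable group `G`, `N` a normal subgroup such that all normal
subgroups of `G` inside `N` that are abelian modulo `ker ψ` are central modulo `ker ψ`. Then there
is a section `E / Z` of `N`, of order `D`, a power of a prime `q`, and for `x ∈ E \ Z` the function
`y ↦ ψ([x, y])` gives a linear character of the stabiliser of `x Z`, inducing an irreducible
character of `G` of degree the orbit size.
-/

set_option autoImplicit false

namespace Cfsg.Agent.H598.FourCore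

open Cfsg Cfsg.Agent Cfsg.Agent.Characters Cfsg.Agent.Characters.Core
open Cfsg.Agent.H597.Base Subgroup
open scoped ComplexConjugate

universe u

variable {G : Type u} [Group G]

/-- The function `χ` is nontrivial on `M`. -/
def Ov (M : Subgroup G) (χ : G → ℂ) : Prop := ∃ x ∈ M, χ x ≠ χ 1

/-- `z` is central modulo the kernel of `ψ`. -/
def Cen (ψ : G → ℂ) (z : G) : Prop := ∀ g : G, ψ (g * z * g⁻¹ * z⁻¹) = ψ 1

theorem apply_mul_of_cen [Finite G] {ψ : G → ℂ} (hψ : IsIrrCharacter G ψ) {z : G}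
    (hz : Cen ψ z) (g : G) : ψ (g * z) = ψ g * (ψ z / ψ 1) := by
  have h0 := isIrr_apply_one_ne_zero hψ
  obtain ⟨n, ρ, hρ, hc⟩ := hψ
  have h1 : ∀ g, ρ g * ρ z = ρ z * ρ g := by
    intro g
    have h2 := Cfsg.Agent.S0139.result ρ (g * z * g⁻¹ * z⁻¹)
    have h3 := h2.1 (by rw [hc, hz g, ← hc, Representation.char_one])
    have h4 : ρ (g * z) = ρ ((g * z * g⁻¹ * z⁻¹) * (z * g)) := by congr 1; group
    rw [map_mul, map_mul, h3] at h4
    rw [h4, map_mul]
    rfl
  obtain ⟨w, hw⟩ := CharDeep.SameChar.exists_smul_of_commute ρ hρ (ρ z) (fun g v => by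
    have := congrArg (fun T : Module.End ℂ (Fin n → ℂ) => T v) (h1 g)
    exact this.symm)
  have h5 : ∀ x, ψ (x * z) = w * ψ x := by
    intro x
    rw [← hc]
    show LinearMap.trace ℂ _ (ρ (x * z)) = w * LinearMap.trace ℂ _ (ρ x)
    rw [map_mul, hw, ← smul_eq_mul w, ← map_smul]
    congr 1
    ext v
    simp
  have h6 := h5 1
  rw [one_mul] at h6
  rw [h5, h6]
  field_simp

theorem Cen.mul [Finite G] {ψ : G → ℂ} (hψ : IsIrrCharacter G ψ) {a b : G} (ha : Cen ψ a)
    (hb : Cen ψ b) : Cen ψ (a * b) := by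
  intro g
  have hχ := isIrr_isCharacter hψ
  have e : g * (a * b) * g⁻¹ * (a * b)⁻¹ =
      (g * a * g⁻¹ * a⁻¹) * (a * (g * b * g⁻¹ * b⁻¹) * a⁻¹) := by group
  rw [e, apply_mul_of_ker hχ (by rw [isCharacter_isClassFunction hχ]; exact hb g)]
  exact ha g

theorem Cen.inv [Finite G] {ψ : G → ℂ} (hψ : IsIrrCharacter G ψ) {a : G} (ha : Cen ψ a) :
    Cen ψ a⁻¹ := by
  intro g
  have hχ := isIrr_isCharacter hψ
  have e : g * a⁻¹ * g⁻¹ * a⁻¹⁻¹ = a⁻¹ * (g * a * g⁻¹ * a⁻¹)⁻¹ * a⁻¹⁻¹ := by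
    group
  rw [e, isCharacter_isClassFunction hχ]
  exact (ker hχ).inv_mem (show _ ∈ ker hχ from ha g)

theorem Cen.conj [Finite G] {ψ : G → ℂ} (hψ : IsIrrCharacter G ψ) {a : G} (ha : Cen ψ a)
    (x : G) : Cen ψ (x * a * x⁻¹) := by
  intro g
  have hχ := isIrr_isCharacter hψ
  have e : g * (x * a * x⁻¹) * g⁻¹ * (x * a * x⁻¹)⁻¹ =
      x * ((x⁻¹ * g * x) * a * (x⁻¹ * g * x)⁻¹ * a⁻¹) * x⁻¹ := by group
  rw [e, isCharacter_isClassFunction hχ]
  exact ha _

theorem cen_one [Finite G] (ψ : G → ℂ) : Cen ψ (1 : G) := by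
  intro g
  congr 1
  group

/-- The elements of `N` that are central modulo the kernel. -/
def Zc [Finite G] (N : Subgroup G) {ψ : G → ℂ} (hψ : IsIrrCharacter G ψ) : Subgroup G where
  carrier := {z | z ∈ N ∧ Cen ψ z}
  mul_mem' := fun ha hb => ⟨N.mul_mem ha.1 hb.1, ha.2.mul hψ hb.2⟩
  one_mem' := ⟨N.one_mem, cen_one ψ⟩
  inv_mem' := fun ha => ⟨N.inv_mem ha.1, ha.2.inv hψ⟩

theorem mem_Zc [Finite G] {N : Subgroup G} {ψ : G → ℂ} (hψ : IsIrrCharacter G ψ) {z : G} :
    z ∈ Zc N hψ ↔ z ∈ N ∧ Cen ψ z := Iff.rfl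

instance Zc_normal [Finite G] (N : Subgroup G) [N.Normal] {ψ : G → ℂ} (hψ : IsIrrCharacter G ψ) :
    (Zc N hψ).Normal :=
  ⟨fun z hz g => ⟨‹N.Normal›.conj_mem z hz.1 g, hz.2.conj hψ g⟩⟩

theorem Zc_le [Finite G] (N : Subgroup G) {ψ : G → ℂ} (hψ : IsIrrCharacter G ψ) : Zc N hψ ≤ N :=
  fun _ h => h.1

/-- The scalar by which a central element acts. -/
noncomputable def sc (ψ : G → ℂ) (z : G) : ℂ := ψ z / ψ 1

theorem sc_mul [Finite G] {ψ : G → ℂ} (hψ : IsIrrCharacter G ψ) {a b : G} (hb : Cen ψ b) :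
    sc ψ (a * b) = sc ψ a * sc ψ b := by
  rw [sc, apply_mul_of_cen hψ hb, sc, sc]
  ring

theorem sc_conj [Finite G] {ψ : G → ℂ} (hψ : IsIrrCharacter G ψ) (x a : G) :
    sc ψ (x * a * x⁻¹) = sc ψ a := by
  rw [sc, sc, isCharacter_isClassFunction (isIrr_isCharacter hψ)]

theorem sc_one [Finite G] {ψ : G → ℂ} (hψ : IsIrrCharacter G ψ) : sc ψ 1 = 1 :=
  div_self (isIrr_apply_one_ne_zero hψ)

theorem sc_eq_one [Finite G] {ψ : G → ℂ} (hψ : IsIrrCharacter G ψ) {a : G} :
    sc ψ a = 1 ↔ ψ a = ψ 1 := by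
  rw [sc, div_eq_one_iff_eq (isIrr_apply_one_ne_zero hψ)]

theorem sc_pow [Finite G] {ψ : G → ℂ} (hψ : IsIrrCharacter G ψ) {a : G} (ha : Cen ψ a) (n : ℕ) :
    sc ψ (a ^ n) = sc ψ a ^ n := by
  induction n with
  | zero => rw [pow_zero, pow_zero, sc_one hψ]
  | succ n ih => rw [pow_succ, sc_mul hψ ha, ih, pow_succ]

/-- The stabiliser of `x` modulo central elements. -/
def Tx [Finite G] {ψ : G → ℂ} (hψ : IsIrrCharacter G ψ) (x : G) : Subgroup G where
  carrier := {y | Cen ψ (x * y * x⁻¹ * y⁻¹)}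
  mul_mem' := fun {a b} ha hb => by
    show Cen ψ _
    have e : x * (a * b) * x⁻¹ * (a * b)⁻¹ =
      (x * a * x⁻¹ * a⁻¹) * (a * (x * b * x⁻¹ * b⁻¹) * a⁻¹) := by group
    rw [e]
    exact Cen.mul hψ ha (Cen.conj hψ hb a)
  one_mem' := by
    show Cen ψ _
    have e : x * 1 * x⁻¹ * 1⁻¹ = 1 := by group
    rw [e]
    exact cen_one ψ
  inv_mem' := fun {a} ha => by
    show Cen ψ _
    have e : x * a⁻¹ * x⁻¹ * a⁻¹⁻¹ = a⁻¹ * (x * a * x⁻¹ * a⁻¹)⁻¹ * a⁻¹⁻¹ := by group
    rw [e]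
    exact Cen.conj hψ (Cen.inv hψ ha) a⁻¹

theorem mem_Tx [Finite G] {ψ : G → ℂ} (hψ : IsIrrCharacter G ψ) {x y : G} :
    y ∈ Tx hψ x ↔ Cen ψ (x * y * x⁻¹ * y⁻¹) := Iff.rfl

/-- The linear character of `Tx`. -/
noncomputable def lamx [Finite G] {ψ : G → ℂ} (hψ : IsIrrCharacter G ψ) (x : G) :
    Tx hψ x →* ℂˣ :=
  MonoidHom.toHomUnits
    { toFun := fun y => sc ψ (x * y * x⁻¹ * (y : G)⁻¹)
      map_one' := by
        have e : x * ((1 : Tx hψ x) : G) * x⁻¹ * ((1 : Tx hψ x) : G)⁻¹ = 1 := by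
          rw [OneMemClass.coe_one]; group
        rw [e, sc_one hψ]
      map_mul' := fun a b => by
        have e : x * ((a * b : Tx hψ x) : G) * x⁻¹ * ((a * b : Tx hψ x) : G)⁻¹ =
            (x * a * x⁻¹ * (a : G)⁻¹) * (a * (x * b * x⁻¹ * (b : G)⁻¹) * (a : G)⁻¹) := by
          rw [Subgroup.coe_mul]; group
        rw [e, sc_mul hψ (Cen.conj hψ b.2 a), sc_conj hψ] }

theorem lamx_apply [Finite G] {ψ : G → ℂ} (hψ : IsIrrCharacter G ψ) (x : G) (y : Tx hψ x) :
    ((lamx hψ x y : ℂˣ) : ℂ) = sc ψ (x * y * x⁻¹ * (y : G)⁻¹) := rfl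

theorem sc_inv_ne_one [Finite G] {ψ : G → ℂ} (hψ : IsIrrCharacter G ψ) {a : G}
    (h : ψ a ≠ ψ 1) : sc ψ a⁻¹ ≠ 1 := by
  intro h1
  have h2 := (ker (isIrr_isCharacter hψ)).inv_mem
    (show a⁻¹ ∈ ker (isIrr_isCharacter hψ) from (sc_eq_one hψ).1 h1)
  rw [inv_inv] at h2
  exact h h2

/-- The kernel of an irreducible induced character, on the subgroup. -/
theorem ker_of_indFun [Fintype G] (T : Subgroup G) {η : T → ℂ} (hη : IsIrrCharacter T η)
    (hind : IsIrrCharacter G (indFun T η)) (t : T) (ht : indFun T η t = indFun T η 1) :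
    η t = η 1 := by
  classical
  have := Fintype.ofFinite T
  have h1 : classInner (indFun T η) (indFun T η) = 1 := classInner_irr_self hind
  rw [OddOrderCharacters.IndRes.classInner_indFun_right T η (isIrr_isClassFunction hind)] at h1
  exact ker_of_constituent (Clifford.isCharacter_restrict T (isIrr_isCharacter hind)) hη
    (by rw [show (fun x : T => indFun T η x) = OddOrderCharacters.IndRes.res T (indFun T η) from rfl,
          h1]
        exact one_ne_zero) ht

section section_E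

variable [Finite G] {ψ : G → ℂ} (hψ : IsIrrCharacter G ψ) {N E : Subgroup G}

theorem le_Tx (hcomm : ∀ a ∈ E, ∀ b ∈ E, Cen ψ (a * b * a⁻¹ * b⁻¹)) {x : G} (hx : x ∈ E) :
    E ≤ Tx hψ x := fun y hy => hcomm x hx y hy

/-- Irreducibility of the induced character. -/
theorem irr_eta [Fintype G] [hEn : E.Normal]
    (hcomm : ∀ a ∈ E, ∀ b ∈ E, Cen ψ (a * b * a⁻¹ * b⁻¹))
    (hcen : ∀ a ∈ E, (∀ e ∈ E, ψ (a * e * a⁻¹ * e⁻¹) = ψ 1) → Cen ψ a) {x : G} (hx : x ∈ E) :
    IsIrrCharacter G (indFun (Tx hψ x) (fun y => (lamx hψ x y : ℂ))) := by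
  classical
  have := Fintype.ofFinite E
  have := Fintype.ofFinite (Tx hψ x)
  have hET : E ≤ Tx hψ x := le_Tx hψ hcomm hx
  set θ : E → ℂ := fun e => (((lamx hψ x).comp (Subgroup.inclusion hET) e : ℂˣ) : ℂ) with hθ
  have hθi : IsIrrCharacter E θ := Linear.isIrrCharacter_hom _
  have hθa : ∀ e : E, θ e = sc ψ (x * e * x⁻¹ * (e : G)⁻¹) := fun e => rfl
  refine H591.Cliff.irr_ind (N := E) (θ := θ) hθi ?_ hET (Linear.isIrrCharacter_hom _) ?_
  · intro g hg
    have h1 : ∀ e ∈ E, sc ψ ((g⁻¹ * x * g) * e * (g⁻¹ * x * g)⁻¹ * e⁻¹) =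
        sc ψ (x * e * x⁻¹ * e⁻¹) := by
      intro e he
      have h2 := congrFun hg ⟨e, he⟩
      have h3 : θ ⟨g * e * g⁻¹, hEn.conj_mem e he g⟩ = θ ⟨e, he⟩ := h2
      rw [hθa, hθa] at h3
      rw [← h3, ← sc_conj hψ g]
      congr 1
      simp only
      group
    have h4 : Cen ψ ((g⁻¹ * x * g) * x⁻¹) := by
      have hx' : g⁻¹ * x * g ∈ E := by
        have := hEn.conj_mem x hx g⁻¹
        rwa [inv_inv] at this
      refine hcen _ (E.mul_mem hx' (E.inv_mem hx)) fun e he => ?_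
      rw [← sc_eq_one hψ]
      have e1 : (g⁻¹ * x * g) * x⁻¹ * e * ((g⁻¹ * x * g) * x⁻¹)⁻¹ * e⁻¹ =
          ((g⁻¹ * x * g) * (x⁻¹ * (e * x * e⁻¹ * x⁻¹) * x⁻¹⁻¹) * (g⁻¹ * x * g)⁻¹) *
            ((g⁻¹ * x * g) * e * (g⁻¹ * x * g)⁻¹ * e⁻¹) := by group
      rw [e1, sc_mul hψ (hcomm _ hx' e he), h1 e he, sc_conj hψ, sc_conj hψ,
        ← sc_mul hψ (hcomm x hx e he)]
      have e2 : e * x * e⁻¹ * x⁻¹ * (x * e * x⁻¹ * e⁻¹) = 1 := by group
      rw [e2, sc_one hψ]
    rw [mem_Tx]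
    have e3 : x * g * x⁻¹ * g⁻¹ = g * ((g⁻¹ * x * g) * x⁻¹) * g⁻¹ := by group
    rw [e3]
    exact Cen.conj hψ h4 g
  · have h5 : OddOrderCharacters.PF9.CliffGen.resTo hET
        (fun y => ((lamx hψ x y : ℂˣ) : ℂ)) = θ := rfl
    rw [h5, classInner_irr_self hθi]
    exact one_ne_zero

theorem charDegree_eta [Fintype G] (x : G) :
    charDegree (indFun (Tx hψ x) (fun y => (lamx hψ x y : ℂ))) = (Tx hψ x).index := by
  apply Blocks.Basic.charDegree_of_eq
  rw [OddOrderCharacters.IndRes.indFun_apply_one, map_one]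
  simp

theorem ov_eta [Fintype G] [hEn : E.Normal] (hEN : E ≤ N)
    (hcomm : ∀ a ∈ E, ∀ b ∈ E, Cen ψ (a * b * a⁻¹ * b⁻¹))
    (hcen : ∀ a ∈ E, (∀ e ∈ E, ψ (a * e * a⁻¹ * e⁻¹) = ψ 1) → Cen ψ a) {x : G} (hx : x ∈ E)
    (hxc : ¬ Cen ψ x) : Ov N (indFun (Tx hψ x) (fun y => (lamx hψ x y : ℂ))) := by
  by_contra hcon
  unfold Ov at hcon
  push Not at hcon
  apply hxc
  refine hcen x hx fun e he => ?_
  have h1 := ker_of_indFun (Tx hψ x) (Linear.isIrrCharacter_hom (lamx hψ x))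
    (irr_eta hψ hcomm hcen hx) ⟨e, le_Tx hψ hcomm hx he⟩ (hcon e (hEN he))
  rw [← sc_eq_one hψ]
  have h2 : ((lamx hψ x ⟨e, le_Tx hψ hcomm hx he⟩ : ℂˣ) : ℂ) = sc ψ (x * e * x⁻¹ * e⁻¹) := rfl
  rw [← h2]
  refine h1.trans ?_
  rw [map_one, Units.val_one]

/-- A vector fixed by a Sylow subgroup. -/
theorem exists_fixed [hNn : N.Normal] [hEn : E.Normal] (hEN : E ≤ N) {q : ℕ} (hq : q.Prime)
    (hpow : ∀ e ∈ E, ∃ k : ℕ, e ^ q ^ k ∈ Zc N hψ) (hne : ∃ e ∈ E, ¬ Cen ψ e) :
    ∃ x ∈ E, ¬ Cen ψ x ∧ ¬ q ∣ (Tx hψ x).index := by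
  classical
  have := Fact.mk hq
  set Z := Zc N hψ with hZ
  set π := QuotientGroup.mk' Z with hπ
  obtain ⟨S⟩ : Nonempty (Sylow q G) := inferInstance
  obtain ⟨e₀, he₀, he₀c⟩ := hne
  have hS : IsPGroup q ((S : Subgroup G).map π) := S.2.map π
  have hE : IsPGroup q (E.map π) := by
    rintro ⟨_, e, he, rfl⟩
    obtain ⟨k, hk⟩ := hpow e he
    refine ⟨k, Subtype.ext ?_⟩
    rw [Subgroup.coe_pow, OneMemClass.coe_one, ← map_pow]
    exact (QuotientGroup.eq_one_iff _).2 hk
  have hE1 : E.map π ≠ ⊥ := by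
    intro h
    have h1 : π e₀ ∈ E.map π := ⟨e₀, he₀, rfl⟩
    rw [h, Subgroup.mem_bot] at h1
    exact he₀c ((QuotientGroup.eq_one_iff _).1 h1).2
  have hEm : (E.map π).Normal := hEn.map π (QuotientGroup.mk'_surjective Z)
  obtain ⟨w, hw, hw1, hcomm⟩ := CNBasic.exists_mem_center_of_normal _ hS _ hE hE1
    (fun t _ d hd => hEm.conj_mem d hd t)
  obtain ⟨x, hx, rfl⟩ := hw
  refine ⟨x, hx, fun hxc => hw1 ((QuotientGroup.eq_one_iff _).2 ⟨hEN hx, hxc⟩), ?_⟩
  have hST : (S : Subgroup G) ≤ Tx hψ x := by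
    intro s hs
    rw [mem_Tx]
    have h1 := hcomm (π s) ⟨s, hs, rfl⟩
    have h2 : π (x * s * x⁻¹ * s⁻¹) = 1 := by
      rw [map_mul, map_mul, map_mul, map_inv, map_inv, ← h1]
      group
    exact ((QuotientGroup.eq_one_iff _).1 h2).2
  intro hd
  exact S.not_dvd_index (hd.trans (Subgroup.index_dvd_of_le hST))

/-- The orbit bound. -/
theorem index_Tx_lt [hNn : N.Normal] [hEn : E.Normal] {x : G} (hx : x ∈ E)
    (hxc : ¬ Cen ψ x) : (Tx hψ x).index < (Zc N hψ).relIndex E := by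
  classical
  set Z := Zc N hψ with hZ
  set π := QuotientGroup.mk' Z with hπ
  have hker : π.ker = Z := QuotientGroup.ker_mk' Z
  have hD : Z.relIndex E = Nat.card (E.map π) :=
    (congrArg (fun A : Subgroup G => A.relIndex E) hker).symm.trans (Subgroup.relIndex_ker E π)
  rw [hD]
  have key : ∀ a b : G, π (a * x * a⁻¹) = π (b * x * b⁻¹) → a⁻¹ * b ∈ Tx hψ x := by
    intro a b h
    rw [mem_Tx]
    have h1 : π ((a * x * a⁻¹)⁻¹ * (b * x * b⁻¹)) = 1 := by
      rw [map_mul, map_inv, h, inv_mul_cancel]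
    have h2 := ((QuotientGroup.eq_one_iff _).1 h1).2
    have e1 : x * (a⁻¹ * b) * x⁻¹ * (a⁻¹ * b)⁻¹ =
        (x * a⁻¹) * ((a * x * a⁻¹)⁻¹ * (b * x * b⁻¹))⁻¹ * (x * a⁻¹)⁻¹ := by group
    rw [e1]
    exact Cen.conj hψ (Cen.inv hψ h2) _
  let f : G ⧸ Tx hψ x → {w : E.map π // w ≠ 1} := fun y =>
    ⟨⟨π (y.out * x * (y.out)⁻¹), _, hEn.conj_mem x hx _, rfl⟩, by
      intro h
      have h1 := congrArg Subtype.val h
      have h2 := ((QuotientGroup.eq_one_iff _).1 h1).2
      apply hxc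
      have h3 := Cen.conj hψ h2 (y.out)⁻¹
      have e1 : (y.out)⁻¹ * (y.out * x * (y.out)⁻¹) * (y.out)⁻¹⁻¹ = x := by group
      rwa [e1] at h3⟩
  have hf : Function.Injective f := by
    intro y z h
    have h1 := congrArg (fun w => ((w : {w : E.map π // w ≠ 1}) : G ⧸ Z)) h
    have h2 := key _ _ h1
    have h3 := QuotientGroup.eq.2 h2
    simpa using h3
  have h1 := Nat.card_le_card_of_injective f hf
  have h2 : Nat.card {w : E.map π // w ≠ 1} < Nat.card (E.map π) := by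
    apply Finite.card_subtype_lt (x := (1 : E.map π))
    simp
  rw [Subgroup.index]
  exact lt_of_le_of_lt h1 h2

include hψ in
/-- Vanishing off the centre. -/
theorem vanish (hcomm : ∀ a ∈ E, ∀ b ∈ E, Cen ψ (a * b * a⁻¹ * b⁻¹))
    (hcen : ∀ a ∈ E, (∀ e ∈ E, ψ (a * e * a⁻¹ * e⁻¹) = ψ 1) → Cen ψ a) {e : G} (he : e ∈ E)
    (hc : ¬ Cen ψ e) : ψ e = 0 := by
  have h1 : ∃ b ∈ E, ψ (e * b * e⁻¹ * b⁻¹) ≠ ψ 1 := by
    by_contra hcon
    push Not at hcon
    exact hc (hcen e he hcon)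
  obtain ⟨b, hb, hne⟩ := h1
  have h2 := sc_inv_ne_one hψ hne
  have h3 : ψ (b * e * b⁻¹) = ψ e := isCharacter_isClassFunction (isIrr_isCharacter hψ) _ _
  have h4 := apply_mul_of_cen hψ (Cen.inv hψ (hcomm e he b hb)) e
  have h5 : ψ (e * (e * b * e⁻¹ * b⁻¹)⁻¹) = ψ (b * e * b⁻¹) := by
    rw [← isCharacter_isClassFunction (isIrr_isCharacter hψ) (e * (e * b * e⁻¹ * b⁻¹)⁻¹) e⁻¹]
    congr 1
    group
  rw [h5, h3] at h4
  have h6 : ψ e * (sc ψ (e * b * e⁻¹ * b⁻¹)⁻¹ - 1) = 0 := by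
    rw [mul_sub, mul_one, sc, ← h4, sub_self]
  rcases mul_eq_zero.1 h6 with h | h
  · exact h
  · exact absurd (sub_eq_zero.1 h) h2

/-- The inner product of the restrictions to `E`. -/
theorem inner_E [Fintype G] [Fintype E] (hEN : E ≤ N) (hZE : Zc N hψ ≤ E)
    (hcomm : ∀ a ∈ E, ∀ b ∈ E, Cen ψ (a * b * a⁻¹ * b⁻¹))
    (hcen : ∀ a ∈ E, (∀ e ∈ E, ψ (a * e * a⁻¹ * e⁻¹) = ψ 1) → Cen ψ a) {χ χ' : G → ℂ}
    (hχ : IsIrrCharacter G χ) (hp : ∀ n ∈ N, χ n * ψ 1 = χ 1 * ψ n)
    (hχ' : IsIrrCharacter G χ') (hp' : ∀ n ∈ N, χ' n * ψ 1 = χ' 1 * ψ n) :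
    ((Zc N hψ).relIndex E : ℂ) * classInner (fun e : E => χ e) (fun e : E => χ' e) =
      charDegree χ * charDegree χ' := by
  classical
  set Z := Zc N hψ with hZ
  have h0 := isIrr_apply_one_ne_zero hψ
  have h0c : conj (ψ 1) = ψ 1 := by
    rw [Blocks.Basic.irr_one_eq_charDegree hψ, Complex.conj_natCast]
  have h0c' : conj (χ' 1) = χ' 1 := by
    rw [Blocks.Basic.irr_one_eq_charDegree hχ', Complex.conj_natCast]
  have hsum : ∑ e : E, χ e * conj (χ' e) = (Nat.card Z : ℂ) * (χ 1 * χ' 1) := by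
    have hterm : ∀ e : E, χ e * conj (χ' e) = if (e : G) ∈ Z then χ 1 * χ' 1 else 0 := by
      intro e
      have h3 := hp e (hEN e.2)
      have h4 : χ e = χ 1 * ψ e / ψ 1 := by rw [← h3]; field_simp
      have h3' := hp' e (hEN e.2)
      have h4' : χ' e = χ' 1 * ψ e / ψ 1 := by rw [← h3']; field_simp
      rw [h4, h4', map_div₀, map_mul, h0c, h0c']
      split_ifs with h
      · have h1 := H597.Norm.normSq_eq_of_central hψ h.2
        have h2 : ψ e * conj (ψ e) = ψ 1 * ψ 1 := by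
          rw [Complex.mul_conj, h1, Blocks.Basic.irr_one_eq_charDegree hψ]
          push_cast
          ring
        have h5 : χ 1 * ψ e / ψ 1 * (χ' 1 * conj (ψ e) / ψ 1) =
            χ 1 * χ' 1 * (ψ e * conj (ψ e)) / (ψ 1 * ψ 1) := by
          field_simp
        rw [h5, h2, mul_div_assoc, div_self (mul_ne_zero h0 h0), mul_one]
      · rw [vanish hψ hcomm hcen e.2 (fun hc => h ⟨hEN e.2, hc⟩), map_zero, mul_zero, mul_zero,
          zero_div, zero_mul]
    rw [Finset.sum_congr rfl fun e _ => hterm e, Finset.sum_ite, Finset.sum_const_zero, add_zero,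
      Finset.sum_const, nsmul_eq_mul]
    congr 1
    have h5 : (Finset.univ.filter fun e : E => (e : G) ∈ Z).card = Nat.card (Z.subgroupOf E) := by
      rw [← Fintype.card_subtype, ← Nat.card_eq_fintype_card]
      rfl
    rw [h5, Nat.card_congr (Subgroup.subgroupOfEquivOfLe hZE).toEquiv]
  rw [classInner_def, hsum]
  have h6 : (Nat.card E : ℂ) = Z.relIndex E * Nat.card Z := by
    have := Subgroup.card_mul_index (Z.subgroupOf E)
    rw [Nat.card_congr (Subgroup.subgroupOfEquivOfLe hZE).toEquiv] at this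
    rw [← this]
    push_cast
    rw [mul_comm]
    rfl
  have hE0 : (Nat.card E : ℂ) ≠ 0 := Nat.cast_ne_zero.2 Nat.card_pos.ne'
  rw [Blocks.Basic.irr_one_eq_charDegree hχ', Blocks.Basic.irr_one_eq_charDegree hχ]
  have h7 : (Z.relIndex E : ℂ) * ((Nat.card E : ℂ)⁻¹ *
      ((Nat.card Z : ℂ) * ((charDegree χ : ℂ) * (charDegree χ' : ℂ)))) =
      (Nat.card E : ℂ)⁻¹ * (Z.relIndex E * Nat.card Z) *
        ((charDegree χ : ℂ) * (charDegree χ' : ℂ)) := by ring
  rw [h7, ← h6, inv_mul_cancel₀ hE0, one_mul]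

end section_E

/-- The multiplicity of the principal character of `E` is at least the degree of a constituent
trivial on `E`. -/
theorem degree_le_inner [Fintype G] (E : Subgroup G) [Fintype E] {X β : G → ℂ}
    (hX : IsCharacter G X) (hβ : IsIrrCharacter G β) (hβE : ∀ e ∈ E, β e = β 1)
    (hc : classInner X β ≠ 0) {k : ℕ} (hk : classInner (fun e : E => X e) (1 : E → ℂ) = k) :
    charDegree β ≤ k := by
  classical
  have := finite_irr (G := G)
  have := Fintype.ofFinite (IrrCharacter G)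
  obtain ⟨c, hc1, hc2⟩ := CharDeep.CliffordCorr.exists_nat_coeffs hX
  choose d hd using fun η : IrrCharacter G => classInner_isNat
    (Clifford.isCharacter_restrict E (isIrr_isCharacter η.2)) (isCharacter_one (G := E))
  have h1 : (fun e : E => X e) = ∑ η : IrrCharacter G, (c η : ℂ) • (fun e : E => (η : G → ℂ) e) := by
    funext e
    rw [apply_eq_sum hc1 e, Finset.sum_apply]
    rfl
  rw [h1, classInner_sum_left] at hk
  simp_rw [classInner_smul_left, hd] at hk
  have h2 : k = ∑ η : IrrCharacter G, c η * d η := by exact_mod_cast hk.symm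
  have h3 : d ⟨β, hβ⟩ = charDegree β := by
    have h4 := hd ⟨β, hβ⟩
    rw [classInner_def] at h4
    have h5 : ∑ g : E, ((⟨β, hβ⟩ : IrrCharacter G) : G → ℂ) g * conj ((1 : E → ℂ) g) =
        Nat.card E * β 1 := by
      rw [Finset.sum_congr rfl (fun g _ => by
        show β g * conj 1 = β 1
        rw [hβE g g.2, map_one, mul_one]), Finset.sum_const, Finset.card_univ,
        ← Nat.card_eq_fintype_card, nsmul_eq_mul]
    have h0 : (Nat.card E : ℂ) ≠ 0 := Nat.cast_ne_zero.2 Nat.card_pos.ne'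
    rw [h5, ← mul_assoc, inv_mul_cancel₀ h0, one_mul, Blocks.Basic.irr_one_eq_charDegree hβ] at h4
    exact_mod_cast h4.symm
  have h4 : c ⟨β, hβ⟩ ≠ 0 := by
    intro h0
    apply hc
    rw [hc2 ⟨β, hβ⟩, h0, Nat.cast_zero]
  rw [h2, ← h3]
  calc d ⟨β, hβ⟩ ≤ c ⟨β, hβ⟩ * d ⟨β, hβ⟩ := Nat.le_mul_of_pos_left _ (Nat.pos_of_ne_zero h4)
    _ ≤ _ := Finset.single_le_sum (f := fun η : IrrCharacter G => c η * d η)
        (fun _ _ => Nat.zero_le _) (Finset.mem_univ (⟨β, hβ⟩ : IrrCharacter G))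

/-- The section `E / Z`. -/
theorem exists_section [Finite G] [Group.IsSolvable G] {ψ : G → ℂ} (hψ : IsIrrCharacter G ψ)
    {N : Subgroup G} [hNn : N.Normal]
    (hab : ∀ A : Subgroup G, A.Normal → A ≤ N → (∀ a ∈ A, ∀ b ∈ A, ψ (a * b * a⁻¹ * b⁻¹) = ψ 1) →
      ∀ a ∈ A, Cen ψ a) (hN : ∃ n ∈ N, ¬ Cen ψ n) :
    ∃ (q : ℕ) (E : Subgroup G), q.Prime ∧ E.Normal ∧ E ≤ N ∧ Zc N hψ ≤ E ∧
      q ∣ (Zc N hψ).relIndex E ∧ (∀ e ∈ E, e ^ q ∈ Zc N hψ) ∧ (∃ e ∈ E, ¬ Cen ψ e) ∧
      (∀ a ∈ E, ∀ b ∈ E, Cen ψ (a * b * a⁻¹ * b⁻¹)) ∧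
      (∀ a ∈ E, (∀ e ∈ E, ψ (a * e * a⁻¹ * e⁻¹) = ψ 1) → Cen ψ a) := by
  classical
  set Z := Zc N hψ with hZ
  have hZN : Z < N := by
    refine lt_of_le_of_ne (Zc_le N hψ) fun h => ?_
    obtain ⟨n, hn, hc⟩ := hN
    rw [← h] at hn
    exact hc hn.2
  obtain ⟨E, hE⟩ := Set.Finite.exists_minimal
    (s := {E : Subgroup G | E.Normal ∧ Z < E ∧ E ≤ N}) (Set.toFinite _) ⟨N, hNn, hZN, le_rfl⟩
  obtain ⟨⟨hEn, hZE, hEN⟩, hmin⟩ := hE
  have hchief : ∀ A : Subgroup G, A.Normal → Z ≤ A → A ≤ E → A = Z ∨ A = E := by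
    intro A hA hZA hAE
    rcases eq_or_lt_of_le hZA with h | h
    · exact Or.inl h.symm
    · exact Or.inr (le_antisymm hAE (hmin ⟨hA, h, hAE.trans hEN⟩ hAE))
  have hcE : ⁅E, E⁆ ≤ Z := PElem.commutator_le_of_chief E Z hZE hchief
  have hcE' : ∀ a ∈ E, ∀ b ∈ E, a * b * a⁻¹ * b⁻¹ ∈ Z := fun a ha b hb =>
    hcE (Subgroup.commutator_mem_commutator ha hb)
  have hindex : Z.relIndex E ≠ 1 := by
    rw [Ne, Subgroup.relIndex_eq_one]
    exact hZE.not_ge
  obtain ⟨q, hq, hqd⟩ := Nat.exists_prime_and_dvd hindex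
  have := Fact.mk hq
  -- the elements whose `q`-th power is in `Z`
  set π := QuotientGroup.mk' Z with hπ
  have hcomm' : ∀ a ∈ E, ∀ b ∈ E, Commute (π a) (π b) := by
    intro a ha b hb
    have h1 : π (a * b * a⁻¹ * b⁻¹) = 1 := (QuotientGroup.eq_one_iff _).2 (hcE' a ha b hb)
    rw [map_mul, map_mul, map_mul, map_inv, map_inv, mul_inv_eq_one, mul_inv_eq_iff_eq_mul] at h1
    exact h1
  let A : Subgroup G :=
    { carrier := {a | a ∈ E ∧ a ^ q ∈ Z}
      mul_mem' := fun {a b} ha hb => by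
        refine ⟨E.mul_mem ha.1 hb.1, ?_⟩
        have h2 : π (a ^ q) = 1 := (QuotientGroup.eq_one_iff _).2 ha.2
        have h3 : π (b ^ q) = 1 := (QuotientGroup.eq_one_iff _).2 hb.2
        have h1 : π ((a * b) ^ q) = 1 := by
          rw [map_pow, map_mul, (hcomm' a ha.1 b hb.1).mul_pow, ← map_pow, ← map_pow, h2, h3,
            one_mul]
        exact (QuotientGroup.eq_one_iff _).1 h1
      one_mem' := ⟨E.one_mem, by rw [one_pow]; exact Z.one_mem⟩
      inv_mem' := fun {a} ha => ⟨E.inv_mem ha.1, by rw [inv_pow]; exact Z.inv_mem ha.2⟩ }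
  have hAn : A.Normal := ⟨fun a ha g => ⟨hEn.conj_mem a ha.1 g, by
    rw [conj_pow]; exact (Zc_normal N hψ).conj_mem _ ha.2 g⟩⟩
  have hZA : Z ≤ A := fun z hz => ⟨hZE.le hz, Z.pow_mem hz q⟩
  have hAE : A = E := by
    rcases hchief A hAn hZA (fun a ha => ha.1) with h | h
    · exfalso
      have h1 : q ∣ Nat.card (E.map π) := by
        have h2 : π.ker = Z := QuotientGroup.ker_mk' Z
        have h3 : Z.relIndex E = Nat.card (E.map π) :=
          (congrArg (fun A : Subgroup G => A.relIndex E) h2).symm.trans (Subgroup.relIndex_ker E π)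
        rwa [← h3]
      obtain ⟨⟨w, hw⟩, ho⟩ := exists_prime_orderOf_dvd_card' q h1
      obtain ⟨e, he, rfl⟩ := hw
      have h4 : π (e ^ q) = 1 := by
        have := pow_orderOf_eq_one (⟨π e, ⟨e, he, rfl⟩⟩ : E.map π)
        rw [ho] at this
        rw [map_pow]
        exact congrArg Subtype.val this
      have h5 : e ∈ A := ⟨he, (QuotientGroup.eq_one_iff _).1 h4⟩
      rw [h] at h5
      have h6 : π e = 1 := (QuotientGroup.eq_one_iff _).2 h5
      have h7 : orderOf (⟨π e, ⟨e, he, rfl⟩⟩ : E.map π) = 1 := by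
        rw [orderOf_eq_one_iff]
        exact Subtype.ext h6
      rw [h7] at ho
      exact hq.one_lt.ne ho
    · exact h
  have hnc : ∃ e ∈ E, ¬ Cen ψ e := by
    by_contra hcon
    push Not at hcon
    exact hZE.not_ge fun e he => ⟨hEN he, hcon e he⟩
  refine ⟨q, E, hq, hEn, hEN, hZE.le, hqd, fun e he => ?_, hnc, fun a ha b hb => (hcE' a ha b hb).2,
    ?_⟩
  · rw [← hAE] at he
    exact he.2
  · -- the elements commuting with `E` modulo the kernel
    have hχ := isIrr_isCharacter hψ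
    set R := ker hχ with hR
    have hRn : R.Normal := by
      refine ⟨fun a ha g => ?_⟩
      show ψ (g * a * g⁻¹) = ψ 1
      rw [isCharacter_isClassFunction hχ]
      exact ha
    let C : Subgroup G :=
      { carrier := {a | a ∈ E ∧ ∀ e ∈ E, a * e * a⁻¹ * e⁻¹ ∈ R}
        mul_mem' := fun {a b} ha hb => by
          refine ⟨E.mul_mem ha.1 hb.1, fun e he => ?_⟩
          have e1 : a * b * e * (a * b)⁻¹ * e⁻¹ =
              a * (b * e * b⁻¹ * e⁻¹) * a⁻¹ * (a * e * a⁻¹ * e⁻¹) := by group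
          rw [e1]
          exact R.mul_mem (hRn.conj_mem _ (hb.2 e he) a) (ha.2 e he)
        one_mem' := ⟨E.one_mem, fun e he => by
          have e1 : 1 * e * 1⁻¹ * e⁻¹ = (1 : G) := by group
          rw [e1]; exact R.one_mem⟩
        inv_mem' := fun {a} ha => by
          refine ⟨E.inv_mem ha.1, fun e he => ?_⟩
          have e1 : a⁻¹ * e * a⁻¹⁻¹ * e⁻¹ = a⁻¹ * (a * e * a⁻¹ * e⁻¹)⁻¹ * a⁻¹⁻¹ := by group
          rw [e1]
          exact hRn.conj_mem _ (R.inv_mem (ha.2 e he)) _ }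
    have hCn : C.Normal := by
      refine ⟨fun a ha g => ⟨hEn.conj_mem a ha.1 g, fun e he => ?_⟩⟩
      have h1 := ha.2 (g⁻¹ * e * g) (by
        have := hEn.conj_mem e he g⁻¹
        rwa [inv_inv] at this)
      have e1 : g * a * g⁻¹ * e * (g * a * g⁻¹)⁻¹ * e⁻¹ =
          g * (a * (g⁻¹ * e * g) * a⁻¹ * (g⁻¹ * e * g)⁻¹) * g⁻¹ := by group
      rw [e1]
      exact hRn.conj_mem _ h1 g
    have hC : ∀ a ∈ C, Cen ψ a :=
      hab C hCn (fun a ha => hEN ha.1) (fun a ha b hb => ha.2 b hb.1)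
    exact fun a ha h => hC a ⟨ha, h⟩

/-- The main construction. -/
theorem core [Fintype G] [Group.IsSolvable G] {ψ : G → ℂ} (hψ : IsIrrCharacter G ψ)
    {N : Subgroup G} [hNn : N.Normal]
    (hab : ∀ A : Subgroup G, A.Normal → A ≤ N → (∀ a ∈ A, ∀ b ∈ A, ψ (a * b * a⁻¹ * b⁻¹) = ψ 1) →
      ∀ a ∈ A, Cen ψ a) (hN : ∃ n ∈ N, ¬ Cen ψ n) :
    ∃ (q D : ℕ) (η : G → ℂ), q.Prime ∧ q ∣ D ∧ IsIrrCharacter G η ∧ Ov N η ∧
      ¬ q ∣ charDegree η ∧ charDegree η < D ∧
      (∀ χ χ' : G → ℂ, IsIrrCharacter G χ → IsIrrCharacter G χ' →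
        (∀ n ∈ N, χ n * ψ 1 = χ 1 * ψ n) → (∀ n ∈ N, χ' n * ψ 1 = χ' 1 * ψ n) →
        D ∣ charDegree χ * charDegree χ' ∧
        ∀ β : G → ℂ, IsIrrCharacter G β → (∀ n ∈ N, β n = β 1) →
          classInner χ (χ' * β) ≠ 0 → charDegree β * D ≤ charDegree χ * charDegree χ') ∧
      ∃ x ∈ N, ∃ y ∈ N, ψ (x * y * x⁻¹ * y⁻¹) ≠ ψ 1 ∧ ψ ((x * y * x⁻¹ * y⁻¹) ^ q) = ψ 1 := by
  classical
  obtain ⟨q, E, hq, hEn, hEN, hZE, hqd, hpow, hnc, hcomm, hcen⟩ := exists_section hψ hab hN
  have := Fintype.ofFinite E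
  obtain ⟨x, hx, hxc, hxq⟩ := exists_fixed hψ hEN hq
    (fun e he => ⟨1, by rw [pow_one]; exact hpow e he⟩) hnc
  refine ⟨q, (Zc N hψ).relIndex E, _, hq, hqd, irr_eta hψ hcomm hcen hx,
    ov_eta hψ hEN hcomm hcen hx hxc, ?_, ?_, ?_, ?_⟩
  · rw [charDegree_eta]
    exact hxq
  · rw [charDegree_eta]
    exact index_Tx_lt hψ hx hxc
  · intro χ χ' hχ hχ' hp hp'
    have h1 := inner_E hψ hEN hZE hcomm hcen hχ hp hχ' hp'
    obtain ⟨k, hk⟩ := classInner_isNat
      (Clifford.isCharacter_restrict E (isIrr_isCharacter hχ))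
      (Clifford.isCharacter_restrict E (isIrr_isCharacter hχ'))
    rw [hk] at h1
    have h2 : (Zc N hψ).relIndex E * k = charDegree χ * charDegree χ' := by exact_mod_cast h1
    refine ⟨⟨k, h2.symm⟩, fun β hβ hβN hc => ?_⟩
    have h3 : charDegree β ≤ k := by
      refine degree_le_inner E (X := χ * H597.ThreeDegC.cc χ')
        (isCharacter_mul (isIrr_isCharacter hχ) (isIrr_isCharacter (H597.ThreeDegC.isIrr_cc hχ')))
        hβ (fun e he => hβN e (hEN he)) ?_ ?_
      · rw [H597.ThreeDegC.classInner_mul, H597.ThreeDegC.cc_cc]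
        exact hc
      · rw [← hk, classInner_def, classInner_def]
        congr 1
        refine Finset.sum_congr rfl fun e _ => ?_
        rw [Pi.one_apply, map_one, mul_one]
        rfl
    rw [← h2, mul_comm]
    exact Nat.mul_le_mul_left _ h3
  · obtain ⟨e, he, hec⟩ := hnc
    have h1 : ∃ b ∈ E, ψ (e * b * e⁻¹ * b⁻¹) ≠ ψ 1 := by
      by_contra hcon
      push Not at hcon
      exact hec (hcen e he hcon)
    obtain ⟨b, hb, hne⟩ := h1
    refine ⟨e, hEN he, b, hEN hb, hne, ?_⟩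
    have hbT : b ∈ Tx hψ e := hcomm e he b hb
    have h2 : sc ψ ((e * b * e⁻¹ * b⁻¹) ^ q) = 1 := by
      rw [sc_pow hψ (hcomm e he b hb)]
      have h3 := congrArg (fun u : ℂˣ => (u : ℂ)) (map_pow (lamx hψ e) ⟨b, hbT⟩ q)
      simp only [Units.val_pow_eq_pow_val] at h3
      rw [lamx_apply, lamx_apply] at h3
      rw [← h3, sc_eq_one hψ, Subgroup.coe_pow]
      exact (hpow b hb).2 e
    exact (sc_eq_one hψ).1 h2

end Cfsg.Agent.H598.FourCore
end

-- part: H598/FourUtil
section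
/-!
# Degrees of the irreducible characters nontrivial on a normal subgroup: tools
-/

set_option autoImplicit false

namespace Cfsg.Agent.H598.FourUtil

open Cfsg Cfsg.Agent Cfsg.Agent.Characters Cfsg.Agent.Characters.Core
open Cfsg.Agent.H597.Base Cfsg.Agent.H598.FourCore Subgroup
open Cfsg.Agent.OddOrderCharacters.IndRes (res)
open Cfsg.Agent.OddOrderCharacters.NormalInduced (conjFn)
open Cfsg.Agent.OddOrderCharacters.PF9.CliffGen (inertia mem_inertia le_inertia resTo down)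
open Cfsg.Agent.Blocks.Basic (charDegree_of_eq irr_one_eq_charDegree charDegree_pos)
open scoped ComplexConjugate

universe u

variable {G : Type u} [Group G]

theorem classInner_ne_symm [Fintype G] {a b : G → ℂ} (h : classInner a b ≠ 0) :
    classInner b a ≠ 0 := by
  intro h0
  apply h
  have := classInner_conj_symm a b
  rw [h0] at this
  exact (map_eq_zero _).1 this

theorem dvd_of_forall [Fintype G] {X : G → ℂ} (hX : IsCharacter G X) {n d : ℕ} (hn : X 1 = n)
    (h : ∀ κ : G → ℂ, IsIrrCharacter G κ → classInner X κ ≠ 0 → d ∣ charDegree κ) : d ∣ n := by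
  classical
  have := finite_irr (G := G)
  have := Fintype.ofFinite (IrrCharacter G)
  obtain ⟨c, hc, hc'⟩ := CharDeep.CliffordCorr.exists_nat_coeffs hX
  have h1 := degree_eq_sum hc
  rw [hn, Nat.cast_inj] at h1
  rw [h1]
  refine Finset.dvd_sum fun η _ => ?_
  by_cases h0 : c η = 0
  · rw [h0, zero_mul]; exact dvd_zero _
  · exact Dvd.dvd.mul_left (h η η.2 (by rw [hc']; exact_mod_cast h0)) _

/-- Constituents of an induced character lie over the character. -/
theorem over_of_ind [Fintype G] (T : Subgroup G) [Fintype T] {η : T → ℂ} {κ : G → ℂ}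
    (hκ : IsIrrCharacter G κ) (h : classInner (indFun T η) κ ≠ 0) :
    classInner (res T κ) η ≠ 0 := by
  rw [OddOrderCharacters.IndRes.classInner_indFun_left T η (isIrr_isClassFunction hκ)] at h
  exact classInner_ne_symm h

theorem ker_of_over [Fintype G] (T : Subgroup G) [Fintype T] {η : T → ℂ} {κ : G → ℂ}
    (hη : IsIrrCharacter T η) (hκ : IsIrrCharacter G κ) (h : classInner (res T κ) η ≠ 0) (t : T)
    (ht : κ t = κ 1) : η t = η 1 :=
  ker_of_constituent (Clifford.isCharacter_restrict T (isIrr_isCharacter hκ)) hη h (a := t) ht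

theorem ov_of_over [Fintype G] (T : Subgroup G) [Fintype T] {η : T → ℂ} {κ : G → ℂ}
    (hη : IsIrrCharacter T η) (hκ : IsIrrCharacter G κ) (h : classInner (res T κ) η ≠ 0)
    {M : Subgroup G} (hov : Ov (M.subgroupOf T) η) : Ov M κ := by
  obtain ⟨x, hx, hne⟩ := hov
  exact ⟨x, hx, fun h1 => hne (ker_of_over T hη hκ h x h1)⟩

theorem dvd_ind [Fintype G] {M : Subgroup G} (T : Subgroup G) {η : T → ℂ}
    (hη : IsIrrCharacter T η) (hov : Ov (M.subgroupOf T) η) {d : ℕ}
    (h : ∀ κ : G → ℂ, IsIrrCharacter G κ → Ov M κ → d ∣ charDegree κ) :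
    d ∣ T.index * charDegree η := by
  classical
  have := Fintype.ofFinite T
  refine dvd_of_forall (CharDeep.CliffordCorr.isCharacter_indFun T (isIrr_isCharacter hη))
    (n := T.index * charDegree η) ?_ fun κ hκ hc => ?_
  · rw [OddOrderCharacters.IndRes.indFun_apply_one, irr_one_eq_charDegree hη]
    push_cast
    rfl
  · exact h κ hκ (ov_of_over T hη hκ (over_of_ind T hκ hc) hov)

theorem le_ind [Fintype G] {M : Subgroup G} (T : Subgroup G) {η : T → ℂ}
    (hη : IsIrrCharacter T η) (hov : Ov (M.subgroupOf T) η) {d : ℕ}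
    (h : ∀ κ : G → ℂ, IsIrrCharacter G κ → Ov M κ → d ≤ charDegree κ) :
    d ≤ T.index * charDegree η := by
  classical
  have := Fintype.ofFinite T
  have hchar := CharDeep.CliffordCorr.isCharacter_indFun T (isIrr_isCharacter hη)
  have h1 : indFun T η 1 = ((T.index * charDegree η : ℕ) : ℂ) := by
    rw [OddOrderCharacters.IndRes.indFun_apply_one, irr_one_eq_charDegree hη]
    push_cast
    rfl
  have h0 : T.index * charDegree η ≠ 0 :=
    mul_ne_zero (Subgroup.index_ne_zero_of_finite) (charDegree_pos hη).ne'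
  obtain ⟨κ, hκ, hc⟩ := exists_constituent hchar (by rw [h1]; exact_mod_cast h0)
  exact (h κ hκ (ov_of_over T hη hκ (over_of_ind T hκ hc) hov)).trans
    (degree_le_of_constituent hchar hκ h1 hc)

/-- An irreducible character of minimal degree among those nontrivial on `M` is induced only from
subgroups containing `M`. -/
theorem le_of_indFun [Fintype G] (M : Subgroup G) {χ : G → ℂ}
    (hmin : ∀ κ : G → ℂ, IsIrrCharacter G κ → charDegree κ < charDegree χ → ¬ Ov M κ)
    (T : Subgroup G) {η : T → ℂ} (hη : IsIrrCharacter T η) (hind : indFun T η = χ) : M ≤ T := by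
  classical
  by_cases hT : T.index = 1
  · rw [Subgroup.index_eq_one] at hT
    rw [hT]
    exact le_top
  have := Fintype.ofFinite T
  have := finite_irr (G := G)
  have := Fintype.ofFinite (IrrCharacter G)
  have hdeg : T.index ≤ charDegree χ := by
    have h1 : charDegree χ = T.index * charDegree η := by
      apply charDegree_of_eq
      rw [← hind, OddOrderCharacters.IndRes.indFun_apply_one, irr_one_eq_charDegree hη]
      push_cast
      rfl
    rw [h1]
    exact Nat.le_mul_of_pos_right _ (charDegree_pos hη)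
  have h1char : IsCharacter T (fun _ => (1 : ℂ)) := isCharacter_one
  obtain ⟨c, hc, hc'⟩ := CharDeep.CliffordCorr.exists_nat_coeffs_indFun T h1char
  have hπ : IsCharacter G (indFun T fun _ => (1 : ℂ)) :=
    CharDeep.CliffordCorr.isCharacter_indFun T h1char
  have hπ1 : indFun T (fun _ => (1 : ℂ)) 1 = ((T.index : ℕ) : ℂ) := by
    rw [OddOrderCharacters.IndRes.indFun_apply_one, mul_one]
  have hone : classInner (indFun T fun _ => (1 : ℂ)) (1 : G → ℂ) = 1 := by
    rw [Cfsg.Agent.S0146.result T _ _ (isIrr_isClassFunction isIrr_one)]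
    exact classInner_irr_self isIrr_one
  have hlt : ∀ η : IrrCharacter G, c η ≠ 0 → charDegree (η : G → ℂ) < charDegree χ := by
    intro η hη
    have h2 : classInner (indFun T fun _ => (1 : ℂ)) (η : G → ℂ) ≠ 0 := by
      rw [Cfsg.Agent.S0146.result T _ _ (isIrr_isClassFunction η.2), hc']
      exact_mod_cast hη
    have h3 := degree_le_of_constituent hπ η.2 hπ1 h2
    refine lt_of_lt_of_le (lt_of_le_of_ne h3 fun heq => ?_) hdeg
    have h4 := eq_of_degree_eq hπ η.2 h2 (by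
      rw [hπ1, irr_one_eq_charDegree η.2, heq])
    rw [h4] at hone
    have h5 : (η : G → ℂ) = 1 := by
      by_contra hne
      rw [classInner_irr_ne η.2 isIrr_one hne] at hone
      exact zero_ne_one hone
    apply hT
    rw [← heq, h5]
    exact charDegree_of_eq (by simp)
  intro k hk
  apply H597.Taketa.mem_of_indFun_one_eq
  rw [apply_eq_sum hc k, apply_eq_sum hc 1]
  refine Finset.sum_congr rfl fun η _ => ?_
  by_cases h0 : c η = 0
  · rw [h0]; simp
  · have h1 := hmin η η.2 (hlt η h0)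
    have h2 : (η : G → ℂ) k = (η : G → ℂ) 1 := by
      by_contra hne
      exact h1 ⟨k, hk, hne⟩
    rw [h2]

/-- Induction in stages, for a subgroup of a subgroup. -/
theorem ind_trans_exists [Fintype G] (J : Subgroup G) (T : Subgroup J) [Fintype J] {β : T → ℂ}
    (hβ : IsIrrCharacter T β) : ∃ (T' : Subgroup G) (β' : T' → ℂ), IsIrrCharacter T' β' ∧
      T'.subgroupOf J = T ∧ T' ≤ J ∧ indFun T' β' = indFun J (indFun T β) := by
  obtain ⟨T', hT', rfl⟩ : ∃ T' : Subgroup G, T' ≤ J ∧ T'.subgroupOf J = T :=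
    ⟨T.map J.subtype, map_subtype_le T, comap_map_eq_self_of_injective J.subtype_injective T⟩
  refine ⟨T', H591.Cliff.up hT' β, H591.Cliff.isIrr_up hT' hβ, rfl, hT', ?_⟩
  rw [← OddOrderCharacters.PF9.CliffGen.indFun_down hT', H591.Cliff.down_up]

/-- The value of an induced character on a normal subgroup in the kernel. -/
theorem indFun_eq_of_ker [Fintype G] (J : Subgroup G) {ψ : J → ℂ} (X : Subgroup G) [hX : X.Normal]
    (hXJ : X ≤ J) (hψ : ∀ x : J, (x : G) ∈ X → ψ x = ψ 1) {k : G} (hk : k ∈ X) :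
    indFun J ψ k = indFun J ψ 1 := by
  classical
  rw [OddOrderCharacters.IndRes.indFun_apply_one, indFun_apply]
  have h4 : ∀ x : G, extendByZero J ψ (x⁻¹ * k * x) = ψ 1 := by
    intro x
    have hx : x⁻¹ * k * x ∈ X := by
      have := hX.conj_mem k hk x⁻¹
      rwa [inv_inv] at this
    rw [extendByZero_of_mem J _ (hXJ hx), hψ ⟨_, hXJ hx⟩ hx]
  rw [Finset.sum_congr rfl fun x _ => h4 x, Finset.sum_const, nsmul_eq_mul, Finset.card_univ,
    ← Nat.card_eq_fintype_card, ← J.index_mul_card]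
  have h0 : (Nat.card J : ℂ) ≠ 0 := Nat.cast_ne_zero.2 Nat.card_pos.ne'
  push_cast
  field_simp

/-- Transitivity of lying over. -/
theorem over_trans [Fintype G] {N T : Subgroup G} [Fintype N] [Fintype T] (h : N ≤ T)
    {X : T → ℂ} (hX : IsCharacter T X) {ξ : T → ℂ} (hξ : IsIrrCharacter T ξ)
    (h1 : classInner X ξ ≠ 0) {θ : N → ℂ} (hθ : IsCharacter N θ)
    (h2 : classInner (resTo h ξ) θ ≠ 0) : classInner (resTo h X) θ ≠ 0 := by
  have h3 := OddOrderCharacters.Clifford.isCharacter_sub_irr hX hξ h1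
  have h4 : resTo h X = resTo h (X - ξ) + resTo h ξ := by
    funext n
    show X _ = (X _ - ξ _) + ξ _
    ring
  obtain ⟨a, ha⟩ := classInner_isNat
    (OddOrderCharacters.PF9.CliffGen.isCharacter_resTo h h3) hθ
  obtain ⟨b, hb⟩ := classInner_isNat
    (OddOrderCharacters.PF9.CliffGen.isCharacter_resTo h (isIrr_isCharacter hξ)) hθ
  rw [h4, classInner_add_left, ha, hb]
  rw [hb] at h2
  have : b ≠ 0 := by exact_mod_cast h2
  exact_mod_cast (by omega : a + b ≠ 0)

end Cfsg.Agent.H598.FourUtil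
end

-- part: H598/FourRel
section
/-!
# Relative degrees: one degree
-/

set_option autoImplicit false

namespace Cfsg.Agent.H598.FourRel

open Cfsg Cfsg.Agent Cfsg.Agent.Characters Cfsg.Agent.Characters.Core
open Cfsg.Agent.H597.Base Cfsg.Agent.H598.FourCore Cfsg.Agent.H598.FourUtil Subgroup
open Cfsg.Agent.OddOrderCharacters.IndRes (res)
open Cfsg.Agent.OddOrderCharacters.NormalInduced (conjFn)
open Cfsg.Agent.OddOrderCharacters.PF9.CliffGen (inertia mem_inertia le_inertia resTo down)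
open Cfsg.Agent.Blocks.Basic (charDegree_of_eq irr_one_eq_charDegree charDegree_pos)
open scoped ComplexConjugate

universe u

variable {G : Type u} [Group G]

/-- An irreducible character over an invariant irreducible character is proportional to it. -/
theorem prop_of_invariant [Fintype G] {L J : Subgroup G} [hL : L.Normal] (hLJ : L ≤ J)
    [Fintype L] [Fintype J] {φ : L → ℂ} (hφ : IsIrrCharacter L φ) (hinv : ∀ g ∈ J, conjFn L φ g = φ)
    {ψ : J → ℂ} (hψ : IsIrrCharacter J ψ) (h : classInner (resTo hLJ ψ) φ ≠ 0) (n : L) :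
    ψ ⟨n, hLJ n.2⟩ * φ 1 = ψ 1 * φ n := by
  classical
  have := Fintype.ofFinite (L.subgroupOf J)
  have h1 := OddOrderCharacters.PF9.CliffGen.res_of_invariant (K := J) (N := L.subgroupOf J)
    (θ := down L J φ) (H591.Cliff.isIrr_down hLJ hφ)
    (fun g => (H591.Cliff.conjFn_down hLJ φ g).2 (hinv g g.2)) hψ
    (by rw [H591.Cliff.classInner_down_res hLJ]; exact h) ⟨⟨n, hLJ n.2⟩, mem_subgroupOf.2 n.2⟩
  exact h1

/-- The pair attached to an irreducible character of minimal degree. -/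
theorem exists_pair [Fintype G] (M L : Subgroup G) [hLn : L.Normal] (hLM : L ≤ M)
    [Fintype L] {χ : G → ℂ} (hχ : IsIrrCharacter G χ)
    (hmin : ∀ κ : G → ℂ, IsIrrCharacter G κ → charDegree κ < charDegree χ → ¬ Ov M κ) :
    ∃ (J : Subgroup G) (hMJ : M ≤ J) (ψ : J → ℂ) (φ : L → ℂ), IsIrrCharacter J ψ ∧
      indFun J ψ = χ ∧ IsIrrCharacter L φ ∧ (∀ g, conjFn L φ g = φ → g ∈ J) ∧
      (∀ g ∈ J, conjFn L φ g = φ) ∧ classInner (resTo (hLM.trans hMJ) ψ) φ ≠ 0 ∧
      (∀ A : Subgroup J, A.Normal → A ≤ L.subgroupOf J →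
        (∀ a ∈ A, ∀ b ∈ A, ψ (a * b * a⁻¹ * b⁻¹) = ψ 1) → ∀ a ∈ A, Cen ψ a) := by
  classical
  obtain ⟨φ, hφ, hne⟩ := exists_constituent (Clifford.isCharacter_restrict L (isIrr_isCharacter hχ))
    (isIrr_apply_one_ne_zero hχ)
  set J := inertia L φ with hJ
  have := Fintype.ofFinite J
  have hLJ : L ≤ J := le_inertia (isIrr_isClassFunction hφ)
  obtain ⟨ψ, hψ, h1, h2⟩ := H591.Cliff.exists_ind hφ (T := J) (fun g hg => hg) hLJ hχ hne
  have hMJ : M ≤ J := le_of_indFun M hmin J hψ h2.symm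
  have hinv : ∀ g ∈ J, conjFn L φ g = φ := fun g hg => hg
  refine ⟨J, hMJ, ψ, φ, hψ, h2.symm, hφ, fun g hg => hg, hinv, h1, ?_⟩
  intro A hA hAL hab a ha
  have := Fintype.ofFinite A
  -- a linear constituent
  obtain ⟨lam, hlam, hc⟩ := exists_constituent
    (Clifford.isCharacter_restrict A (isIrr_isCharacter hψ)) (isIrr_apply_one_ne_zero hψ)
  have hlam1 : charDegree lam = 1 := by
    refine H597.RelThompson.charDegree_eq_one hlam fun k hk => ?_
    refine ker_of_constituent (Clifford.isCharacter_restrict A (isIrr_isCharacter hψ)) hlam hc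
      (a := k) ?_
    have h3 : commutator A ≤ (ker (isIrr_isCharacter hψ)).comap A.subtype := by
      rw [_root_.commutator_def, commutator_le]
      intro x _ y _
      exact hab x x.2 y y.2
    exact h3 hk
  set T := inertia A lam with hT
  have := Fintype.ofFinite T
  have hAT : A ≤ T := le_inertia (isIrr_isClassFunction hlam)
  obtain ⟨β, hβ, h4, h5⟩ := H591.Cliff.exists_ind hlam (T := T) (fun g hg => hg) hAT hψ hc
  obtain ⟨T', β', hβ', hT', hTJ, hind⟩ := ind_trans_exists J T hβ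
  have hMT : M ≤ T' := le_of_indFun M hmin T' hβ' (by rw [hind, ← h5, ← h2])
  -- restriction to `A`, seen in `L`
  let ι : L →* J := Subgroup.inclusion hLJ
  set A' : Subgroup L := A.comap ι with hA'
  have hA'n : A'.Normal := hA.comap ι
  have := Fintype.ofFinite A'
  let e₀ : A' →* A :=
    { toFun := fun x : A' => (⟨ι x, x.2⟩ : A), map_one' := rfl, map_mul' := fun _ _ => rfl }
  have hbij : Function.Bijective e₀ := by
    constructor
    · intro x y h
      have h6 := congrArg (fun z : A => ((z : J) : G)) h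
      exact Subtype.ext (Subtype.ext h6)
    · rintro ⟨x, hx⟩
      exact ⟨⟨⟨x, mem_subgroupOf.1 (hAL hx)⟩, hx⟩, rfl⟩
  let e : A' ≃* A := MulEquiv.ofBijective e₀ hbij
  have he : ∀ x : A', ((e x : A) : J) = ι x := fun x => rfl
  have hlam' : IsIrrCharacter A' (lam ∘ e) := isIrr_comp (e : A' →* A) e.surjective hlam
  have hprop := prop_of_invariant hLJ hφ hinv hψ h1
  have hφ0 := isIrr_apply_one_ne_zero hφ
  have hψ0 := isIrr_apply_one_ne_zero hψ
  have hlam0 := isIrr_apply_one_ne_zero hlam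
  have h7 : classInner (fun x : A' => φ x) (lam ∘ e) ≠ 0 := by
    have h8 : (fun x : A' => φ x) = (φ 1 / ψ 1) • ((fun x : A => ψ x) ∘ e) := by
      funext x
      have h9 := hprop (x : L)
      rw [Pi.smul_apply, smul_eq_mul]
      show φ x = φ 1 / ψ 1 * ψ (ι x)
      have h10 : ψ (ι x) * φ 1 = ψ 1 * φ x := h9
      field_simp
      rw [mul_comm, ← h10]
      ring
    rw [h8, classInner_smul_left, Clifford.classInner_comp_mulEquiv e]
    exact mul_ne_zero (div_ne_zero hφ0 hψ0) hc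
  have hinv' : ∀ g : L, conjFn A' (lam ∘ e) g = lam ∘ e := by
    intro g
    have h8 : ι g ∈ T := by
      rw [← hT', mem_subgroupOf]
      exact hMT (hLM g.2)
    have h9 : conjFn A lam (ι g) = lam := h8
    funext x
    have h10 := congrFun h9 (e x)
    exact h10
  have h11 := OddOrderCharacters.PF9.CliffGen.res_of_invariant hlam' hinv' hφ h7
  -- conclusion
  have haL : ((a : J) : G) ∈ L := mem_subgroupOf.1 (hAL ha)
  have h12 := h11 ⟨⟨a, haL⟩, ha⟩
  have h13 := hprop ⟨a, haL⟩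
  have h14 : ψ a * lam 1 = ψ 1 * lam ⟨a, ha⟩ := by
    have e1 : φ ⟨a, haL⟩ * lam 1 = φ 1 * lam ⟨a, ha⟩ := by
      have e2 : (lam ∘ e) 1 = lam 1 := by
        show lam (e 1) = lam 1
        rw [map_one]
      rw [e2] at h12
      exact h12
    have e3 : ψ a * φ 1 = ψ 1 * φ ⟨a, haL⟩ := h13
    have e4 : φ 1 * (ψ a * lam 1) = φ 1 * (ψ 1 * lam ⟨a, ha⟩) := by
      calc φ 1 * (ψ a * lam 1) = (ψ a * φ 1) * lam 1 := by ring
        _ = ψ 1 * (φ ⟨a, haL⟩ * lam 1) := by rw [e3]; ring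
        _ = φ 1 * (ψ 1 * lam ⟨a, ha⟩) := by rw [e1]; ring
    exact mul_left_cancel₀ hφ0 e4
  obtain ⟨f, rfl⟩ := Linear.exists_hom_of_isIrrCharacter hlam
    (by rw [irr_one_eq_charDegree hlam, hlam1, Nat.cast_one])
  intro g
  apply H597.Norm.central_of_normSq_eq hψ
  have h15 : ψ a = ψ 1 * f ⟨a, ha⟩ := by
    have h16 : ((fun g => ((f g : ℂˣ) : ℂ)) : A → ℂ) 1 = 1 := by
      show ((f 1 : ℂˣ) : ℂ) = 1
      rw [map_one, Units.val_one]
    rw [h16, mul_one] at h14
    exact h14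
  have h16 : ‖((f ⟨a, ha⟩ : ℂˣ) : ℂ)‖ = 1 := by
    have h17 : IsOfFinOrder (f ⟨a, ha⟩) := f.isOfFinOrder (isOfFinOrder_of_finite (⟨a, ha⟩ : A))
    exact Complex.norm_eq_one_of_pow_eq_one (n := orderOf (f ⟨a, ha⟩))
      (by rw [← Units.val_pow_eq_pow_val, pow_orderOf_eq_one, Units.val_one]) h17.orderOf_pos.ne'
  rw [h15, Complex.normSq_mul, Complex.normSq_eq_norm_sq (f ⟨a, ha⟩ : ℂ), h16, one_pow, mul_one,
    irr_one_eq_charDegree hψ, Complex.normSq_natCast]
  ring

theorem commutator_subgroupOf {L J : Subgroup G} (hLJ : L ≤ J) :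
    ⁅L, L⁆.subgroupOf J = ⁅L.subgroupOf J, L.subgroupOf J⁆ := by
  have h1 : (⁅L.subgroupOf J, L.subgroupOf J⁆).map J.subtype = ⁅L, L⁆ := by
    rw [map_commutator, subgroupOf_map_subtype, inf_eq_left.2 hLJ]
  rw [← h1, subgroupOf, comap_map_eq_self_of_injective J.subtype_injective]

/-- Noncentrality. -/
theorem exists_not_cen [Fintype G] {X L J : Subgroup G} [X.Normal] [L.Normal] (hXL : X ≤ ⁅L, L⁆)
    (hLJ : L ≤ J)
    {χ : G → ℂ} {ψ : J → ℂ} (hψ : IsIrrCharacter J ψ) (hind : indFun J ψ = χ) (hov : Ov X χ) :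
    ∃ n ∈ L.subgroupOf J, ¬ Cen ψ n := by
  by_contra hcon
  push Not at hcon
  obtain ⟨k, hk, hne⟩ := hov
  apply hne
  have hXJ : X ≤ J := hXL.trans ((commutator_le_left L L).trans hLJ)
  have h1 : ⁅L.subgroupOf J, L.subgroupOf J⁆ ≤ ker (isIrr_isCharacter hψ) := by
    rw [commutator_le]
    intro a ha b hb
    exact hcon b hb a
  have h2 := commutator_subgroupOf hLJ
  rw [← hind]
  refine indFun_eq_of_ker J X hXJ (fun x hx => ?_) hk
  have h3 : x ∈ ⁅L.subgroupOf J, L.subgroupOf J⁆ := by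
    rw [← h2, mem_subgroupOf]
    exact hXL hx
  exact h1 h3

/-- **T1.** If all irreducible characters nontrivial on `M` have the same degree, then `M` is
abelian. -/
theorem one_degree [Finite G] [Group.IsSolvable G] (M : Subgroup G) [hM : M.Normal] {f : ℕ}
    (h : ∀ χ : G → ℂ, IsIrrCharacter G χ → Ov M χ → charDegree χ = f) : ⁅M, M⁆ = ⊥ := by
  classical
  have := Fintype.ofFinite G
  by_contra hne
  obtain ⟨x, hx, hx1⟩ : ∃ x ∈ ⁅M, M⁆, x ≠ 1 := by
    by_contra hcon
    push Not at hcon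
    exact hne ((Subgroup.eq_bot_iff_forall _).2 hcon)
  obtain ⟨χ, hχ, hχx⟩ : ∃ χ : G → ℂ, IsIrrCharacter G χ ∧ χ x ≠ χ 1 := by
    by_contra hcon
    push Not at hcon
    exact hx1 (eq_one_of_forall hcon)
  have hM' : ⁅M, M⁆ ≤ M := commutator_le_left M M
  have hov : Ov M χ := ⟨x, hM' hx, hχx⟩
  have hf := h χ hχ hov
  have := Fintype.ofFinite M
  obtain ⟨J, hMJ, ψ, φ, hψ, hind, hφ, -, -, -, hab⟩ := exists_pair M M le_rfl hχ (fun κ hκ hlt hk => by
    rw [h κ hκ hk, hf] at hlt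
    exact lt_irrefl _ hlt)
  have := Fintype.ofFinite J
  have hnc := exists_not_cen (X := ⁅M, M⁆) le_rfl hMJ hψ hind ⟨x, hx, hχx⟩
  obtain ⟨q, D, η, hq, hqD, hη, hηov, hηq, -, hprop, -⟩ := core hψ hab hnc
  have h1 := (hprop ψ ψ hψ hψ (fun n _ => mul_comm _ _) (fun n _ => mul_comm _ _)).1
  have h2 : q ∣ charDegree ψ := by
    rcases hq.dvd_mul.1 (hqD.trans h1) with h | h <;> exact h
  have h3 : f ∣ J.index * charDegree η := dvd_ind J hη hηov fun κ hκ hk => (h κ hκ hk).symm.dvd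
  have h4 : f = J.index * charDegree ψ := by
    rw [← hf]
    apply charDegree_of_eq
    rw [← hind, OddOrderCharacters.IndRes.indFun_apply_one, irr_one_eq_charDegree hψ]
    push_cast
    rfl
  rw [h4] at h3
  have h5 := Nat.dvd_of_mul_dvd_mul_left (Nat.pos_of_ne_zero index_ne_zero_of_finite) h3
  exact hηq (h2.trans h5)

end Cfsg.Agent.H598.FourRel
end

-- part: H598/FourTwo
section
/-!
# Relative degrees: two degrees
-/

set_option autoImplicit false

namespace Cfsg.Agent.H598.FourTwo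

open Cfsg Cfsg.Agent Cfsg.Agent.Characters Cfsg.Agent.Characters.Core
open Cfsg.Agent.H597.Base Cfsg.Agent.H598.FourCore Cfsg.Agent.H598.FourUtil
open Cfsg.Agent.H598.FourRel Subgroup
open Cfsg.Agent.OddOrderCharacters.IndRes (res)
open Cfsg.Agent.OddOrderCharacters.NormalInduced (conjFn)
open Cfsg.Agent.OddOrderCharacters.PF9.CliffGen (inertia mem_inertia le_inertia resTo down)
open Cfsg.Agent.Blocks.Basic (charDegree_of_eq irr_one_eq_charDegree charDegree_pos)
open scoped ComplexConjugate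

universe u

variable {G : Type u} [Group G]

theorem charDegree_ind [Fintype G] (J : Subgroup G) {ψ : J → ℂ} (hψ : IsIrrCharacter J ψ) :
    charDegree (indFun J ψ) = J.index * charDegree ψ := by
  apply charDegree_of_eq
  rw [OddOrderCharacters.IndRes.indFun_apply_one, irr_one_eq_charDegree hψ]
  push_cast
  rfl

/-- The exact power of a prime. -/
theorem exists_exact {q n : ℕ} (hq : q.Prime) (hn : n ≠ 0) :
    ∃ a, q ^ a ∣ n ∧ ¬ q ^ (a + 1) ∣ n :=
  ⟨n.factorization q, Nat.ordProj_dvd n q, Nat.pow_succ_factorization_not_dvd hn hq⟩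

/-- There is an irreducible character trivial on `N` and not on `x ∉ N`. -/
theorem exists_irr_quot [Finite G] (N : Subgroup G) [N.Normal] {x : G} (hx : x ∉ N) :
    ∃ β : G → ℂ, IsIrrCharacter G β ∧ (∀ n ∈ N, β n = β 1) ∧ β x ≠ β 1 := by
  have h1 : (x : G ⧸ N) ≠ 1 := fun h => hx ((QuotientGroup.eq_one_iff x).1 h)
  obtain ⟨β, hβ, hβx⟩ : ∃ χ : G ⧸ N → ℂ, IsIrrCharacter (G ⧸ N) χ ∧ χ x ≠ χ 1 := by
    by_contra hcon
    push Not at hcon
    exact h1 (eq_one_of_forall hcon)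
  refine ⟨β ∘ QuotientGroup.mk' N, isIrr_comp _ (QuotientGroup.mk'_surjective N) hβ, ?_, ?_⟩
  · intro n hn
    show β (n : G ⧸ N) = β ((1 : G) : G ⧸ N)
    rw [(QuotientGroup.eq_one_iff n).2 hn]
    rfl
  · exact hβx

/-- The step on prime powers. -/
theorem not_dvd_of_eta [Fintype G] {M J : Subgroup G} {f g q : ℕ}
    (h : ∀ κ : G → ℂ, IsIrrCharacter G κ → Ov M κ → charDegree κ = f ∨ charDegree κ = g)
    (hq : q.Prime) {η : J → ℂ} (hη : IsIrrCharacter J η) (hov : Ov (M.subgroupOf J) η)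
    (hηq : ¬ q ∣ charDegree η) {a : ℕ} (ha : ¬ q ^ (a + 1) ∣ J.index) (hf : q ^ (a + 1) ∣ f) :
    ¬ q ^ (a + 1) ∣ g := by
  intro hg
  have h1 : q ^ (a + 1) ∣ J.index * charDegree η := dvd_ind J hη hov fun κ hκ hk => by
    rcases h κ hκ hk with h | h <;> rw [h] <;> assumption
  apply ha
  exact (Nat.Coprime.pow_left _ ((hq.coprime_iff_not_dvd).2 hηq)).dvd_of_dvd_mul_right h1

/-- **S1.** -/
theorem step_one [Fintype G] [Group.IsSolvable G] (M : Subgroup G) [hM : M.Normal] {f g : ℕ}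
    (h : ∀ κ : G → ℂ, IsIrrCharacter G κ → Ov M κ → charDegree κ = f ∨ charDegree κ = g)
    (hfg : f ≤ g) {χ : G → ℂ} (hχ : IsIrrCharacter G χ) (hov : Ov ⁅⁅M, M⁆, ⁅M, M⁆⁆ χ) :
    charDegree χ ≠ f := by
  classical
  intro hf
  set L := ⁅M, M⁆ with hL
  have hLM : L ≤ M := commutator_le_left M M
  have := Fintype.ofFinite L
  have hge : ∀ κ : G → ℂ, IsIrrCharacter G κ → Ov M κ → f ≤ charDegree κ := fun κ hκ hk => by
    rcases h κ hκ hk with h | h <;> omega
  obtain ⟨J, hMJ, ψ, φ, hψ, hind, hφ, hin, hinv, hover, hab⟩ := exists_pair M L hLM hχ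
    (fun κ hκ hlt hk => by
      have := hge κ hκ hk
      omega)
  have := Fintype.ofFinite J
  have hLJ : L ≤ J := hLM.trans hMJ
  have hnc := exists_not_cen (X := ⁅L, L⁆) le_rfl hLJ hψ hind hov
  obtain ⟨q, D, η, hq, hqD, hη, hηov, hηq, hηD, hprop, -⟩ := core hψ hab hnc
  have hm : 0 < J.index := Nat.pos_of_ne_zero index_ne_zero_of_finite
  have hpos := charDegree_pos hψ
  have hfm : f = J.index * charDegree ψ := by rw [← hf, ← hind, charDegree_ind J hψ]
  have hηovM : Ov (M.subgroupOf J) η := by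
    obtain ⟨x, hx, hne⟩ := hηov
    exact ⟨x, mem_subgroupOf.2 (hLM (mem_subgroupOf.1 hx)), hne⟩
  -- (i)
  have h1 := (hprop ψ ψ hψ hψ (fun n _ => mul_comm _ _) (fun n _ => mul_comm _ _)).1
  have h2 : q ∣ charDegree ψ := by
    rcases hq.dvd_mul.1 (hqD.trans h1) with h | h <;> exact h
  obtain ⟨a, ha1, ha2⟩ := exists_exact hq hm.ne'
  have hqf : q ^ (a + 1) ∣ f := by
    rw [hfm, pow_succ]
    exact mul_dvd_mul ha1 h2
  have hqg : ¬ q ^ (a + 1) ∣ g := not_dvd_of_eta h hq hη hηovM hηq ha2 hqf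
  -- (ii)
  have hML : ∃ x ∈ M, x ∉ L := by
    by_contra hcon
    push Not at hcon
    have h3 : M = L := le_antisymm hcon hLM
    obtain ⟨x, hx, hne⟩ := hov
    have h4 : M = ⊥ := by
      by_contra hMb
      have h5 := Group.IsSolvable.commutator_lt_of_ne_bot hMb
      rw [← hL, ← h3] at h5
      exact lt_irrefl _ h5
    have h5 : x ∈ M := hLM ((commutator_le_left L L) hx)
    rw [h4, mem_bot] at h5
    exact hne (by rw [h5])
  obtain ⟨x, hxM, hxL⟩ := hML
  obtain ⟨β, hβ, hβL, hβx⟩ := exists_irr_quot (L.subgroupOf J) (x := ⟨x, hMJ hxM⟩)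
    (fun h => hxL (mem_subgroupOf.1 h))
  have hβov : Ov (M.subgroupOf J) β := ⟨⟨x, hMJ hxM⟩, mem_subgroupOf.2 hxM, hβx⟩
  have h3 : charDegree ψ ≤ charDegree β := by
    have h4 : f ≤ J.index * charDegree β := le_ind J hβ hβov hge
    rw [hfm] at h4
    exact Nat.le_of_mul_le_mul_left h4 hm
  have hchar : IsCharacter J (ψ * β) := isCharacter_mul (isIrr_isCharacter hψ) (isIrr_isCharacter hβ)
  have h4 : classInner (resTo hLJ (ψ * β)) φ ≠ 0 := by
    have h5 : resTo hLJ (ψ * β) = (β 1) • resTo hLJ ψ := by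
      funext n
      show ψ _ * β _ = β 1 * ψ _
      rw [hβL ⟨n, hLJ n.2⟩ (mem_subgroupOf.2 n.2), mul_comm]
    rw [h5, classInner_smul_left]
    exact mul_ne_zero (isIrr_apply_one_ne_zero hβ) hover
  obtain ⟨χ', hχ', h5, h6⟩ := OddOrderCharacters.PF9.CliffGen.exists_constituent hLJ hchar h4
  have hirr : IsIrrCharacter G (indFun J χ') := H591.Cliff.irr_ind hφ hin hLJ hχ' h6
  have hφ0 := isIrr_apply_one_ne_zero hφ
  have hψ0 := isIrr_apply_one_ne_zero hψ
  have hχ'0 := isIrr_apply_one_ne_zero hχ'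
  have hp : ∀ n ∈ L.subgroupOf J, χ' n * ψ 1 = χ' 1 * ψ n := by
    intro n hn
    have e1 := prop_of_invariant hLJ hφ hinv hψ hover ⟨n, mem_subgroupOf.1 hn⟩
    have e2 := prop_of_invariant hLJ hφ hinv hχ' h6 ⟨n, mem_subgroupOf.1 hn⟩
    have e1' : ψ n * φ 1 = ψ 1 * φ ⟨n, mem_subgroupOf.1 hn⟩ := e1
    have e2' : χ' n * φ 1 = χ' 1 * φ ⟨n, mem_subgroupOf.1 hn⟩ := e2
    apply mul_right_cancel₀ hφ0
    calc χ' n * ψ 1 * φ 1 = (χ' n * φ 1) * ψ 1 := by ring
      _ = χ' 1 * (ψ 1 * φ ⟨n, mem_subgroupOf.1 hn⟩) := by rw [e2']; ring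
      _ = χ' 1 * ψ n * φ 1 := by rw [← e1']; ring
  have hov' : Ov M (indFun J χ') := by
    by_contra hcon
    unfold Ov at hcon
    push Not at hcon
    obtain ⟨n, hn, hnc'⟩ := hnc
    apply hnc'
    intro g
    have h7 := ker_of_indFun J hχ' hirr
    have h8 : (g * n * g⁻¹ * n⁻¹ : J) ∈ L.subgroupOf J := by
      have := (inferInstance : (L.subgroupOf J).Normal)
      exact (L.subgroupOf J).mul_mem (this.conj_mem n hn g) ((L.subgroupOf J).inv_mem hn)
    have h9 := h7 (g * n * g⁻¹ * n⁻¹) (hcon _ (hLM (mem_subgroupOf.1 h8)))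
    have h10 := hp _ h8
    rw [h9] at h10
    exact (mul_left_cancel₀ hχ'0 h10).symm
  have h7 := hprop χ' χ' hχ' hχ' hp hp
  have h8 : q ∣ charDegree χ' := by
    rcases hq.dvd_mul.1 (hqD.trans h7.1) with h | h <;> exact h
  have h9 : charDegree (indFun J χ') = f := by
    rcases h _ hirr hov' with h | h
    · exact h
    · exfalso
      apply hqg
      rw [← h, charDegree_ind J hχ', pow_succ]
      exact mul_dvd_mul ha1 h8
  have h10 : charDegree χ' = charDegree ψ := by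
    rw [charDegree_ind J hχ', hfm] at h9
    exact Nat.eq_of_mul_eq_mul_left hm h9
  have h11 := (hprop χ' ψ hχ' hψ hp (fun n _ => mul_comm _ _)).2 β hβ hβL (classInner_ne_symm h5)
  rw [h10] at h11
  have h12 : D ≤ charDegree ψ := by
    have : charDegree ψ * D ≤ charDegree ψ * charDegree ψ :=
      (Nat.mul_le_mul_right D h3).trans h11
    exact Nat.le_of_mul_le_mul_left this hpos
  -- (iii)
  have h13 : f ≤ J.index * charDegree η := le_ind J hη hηovM hge
  rw [hfm] at h13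
  have h14 := Nat.le_of_mul_le_mul_left h13 hm
  omega

/-- In a finite nilpotent group, `O^q` has no element of order `q`. -/
theorem eq_one_of_nilpotent {H : Type*} [Group H] [Finite H] (hH : Group.IsNilpotent H) {q : ℕ}
    (hq : q.Prime) {c : H} (hc : c ∈ pResidual q H) (hcq : c ^ q = 1) : c = 1 := by
  have := Fact.mk hq
  obtain ⟨e⟩ := ((Group.isNilpotent_of_finite_tfae (G := H)).out 0 4).1 hH
  have h1 : e.symm c = 1 := by
    funext p P
    have hp : Fact (p : ℕ).Prime := ⟨Nat.prime_of_mem_primeFactors p.2⟩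
    let φ : H →* (P : Subgroup H) :=
      ((Pi.evalMonoidHom _ P).comp (Pi.evalMonoidHom _ p)).comp e.symm.toMonoidHom
    have hφ : φ c = e.symm c p P := rfl
    rw [← hφ]
    show φ c = 1
    by_cases hpq : (p : ℕ) = q
    · have h2 : IsPGroup q (P : Subgroup H) := hpq ▸ P.2
      exact Transfer.Residual.pResidual_le_ker h2 φ hc
    · have h2 : φ c ^ q = 1 := by rw [← map_pow, hcq, map_one]
      obtain ⟨k, hk⟩ := P.2 (φ c)
      have h3 : orderOf (φ c) ∣ q := orderOf_dvd_of_pow_eq_one h2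
      have h4 : orderOf (φ c) ∣ (p : ℕ) ^ k := orderOf_dvd_of_pow_eq_one hk
      have h5 : Nat.Coprime q ((p : ℕ) ^ k) :=
        Nat.Coprime.pow_right _ ((Nat.coprime_primes hq hp.out).2 (Ne.symm hpq))
      exact orderOf_eq_one_iff.1 (Nat.eq_one_of_dvd_coprimes h5 h3 h4)
  have h2 := congrArg e h1
  rwa [MulEquiv.apply_symm_apply, map_one] at h2

/-- **S2.** -/
theorem step_two [Fintype G] [Group.IsSolvable G] (M : Subgroup G) [hM : M.Normal] {f g : ℕ}
    (h : ∀ κ : G → ℂ, IsIrrCharacter G κ → Ov M κ → charDegree κ = f ∨ charDegree κ = g)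
    (hfg : f < g) (hb : ⁅⁅M, M⁆, ⁅M, M⁆⁆ ≠ ⊥)
    (hg : ∀ χ : G → ℂ, IsIrrCharacter G χ → Ov ⁅⁅M, M⁆, ⁅M, M⁆⁆ χ → charDegree χ = g) :
    ∃ q a : ℕ, q.Prime ∧ q ^ (a + 1) ∣ f ∧ ¬ q ^ (a + 1) ∣ g ∧
      ¬ ⁅M, M⁆ ≤ H597.RelThompson.Op q M := by
  classical
  set L := ⁅M, M⁆ with hL
  have hLM : L ≤ M := commutator_le_left M M
  have := Fintype.ofFinite M
  obtain ⟨χ, hχ, hovL, hχg⟩ : ∃ χ : G → ℂ, IsIrrCharacter G χ ∧ Ov L χ ∧ charDegree χ ≠ g := by
    by_contra hcon
    push Not at hcon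
    exact hb (one_degree L hcon)
  have hov : Ov M χ := by
    obtain ⟨x, hx, hne⟩ := hovL
    exact ⟨x, hLM hx, hne⟩
  have hf : charDegree χ = f := (h χ hχ hov).resolve_right hχg
  have hχL : ∀ x ∈ ⁅L, L⁆, χ x = χ 1 := by
    intro x hx
    by_contra hne
    exact hχg (hg χ hχ ⟨x, hx, hne⟩)
  obtain ⟨J, hMJ, ψ, φ, hψ, hind, hφ, hin, hinv, hover, hab⟩ := exists_pair M M le_rfl hχ
    (fun κ hκ hlt hk => by
      rcases h κ hκ hk with h | h <;> omega)
  have := Fintype.ofFinite J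
  have hnc := exists_not_cen (X := L) hL.le hMJ hψ hind hovL
  obtain ⟨q, D, η, hq, hqD, hη, hηov, hηq, hηD, hprop, x, hx, y, hy, hxy, hxyq⟩ := core hψ hab hnc
  have hm : 0 < J.index := Nat.pos_of_ne_zero index_ne_zero_of_finite
  have hfm : f = J.index * charDegree ψ := by rw [← hf, ← hind, charDegree_ind J hψ]
  have h1 := (hprop ψ ψ hψ hψ (fun n _ => mul_comm _ _) (fun n _ => mul_comm _ _)).1
  have h2 : q ∣ charDegree ψ := by
    rcases hq.dvd_mul.1 (hqD.trans h1) with h | h <;> exact h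
  obtain ⟨a, ha1, ha2⟩ := exists_exact hq hm.ne'
  have hqf : q ^ (a + 1) ∣ f := by
    rw [hfm, pow_succ]
    exact mul_dvd_mul ha1 h2
  refine ⟨q, a, hq, hqf, not_dvd_of_eta h hq hη hηov hηq ha2 hqf, fun hcon => ?_⟩
  -- `M'` is central modulo the kernel
  have hirr : IsIrrCharacter G (indFun J ψ) := hind ▸ hχ
  have hψL : ∀ z : J, (z : G) ∈ ⁅L, L⁆ → ψ z = ψ 1 := fun z hz =>
    ker_of_indFun J hψ hirr z (by rw [hind]; exact hχL z hz)
  have hcen : ∀ a ∈ L.subgroupOf J, Cen ψ a := by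
    refine hab (L.subgroupOf J) inferInstance (fun z hz => mem_subgroupOf.2 (hLM hz)) ?_
    intro a ha b hb
    exact hψL _ (commutator_mem_commutator (mem_subgroupOf.1 ha) (mem_subgroupOf.1 hb))
  -- the quotient of `M` by the kernel
  let ι : M →* J := Subgroup.inclusion hMJ
  let K : Subgroup M := (ker (isIrr_isCharacter hψ)).comap ι
  have hK : ∀ m : M, m ∈ K ↔ ψ (ι m) = ψ 1 := fun m => Iff.rfl
  have hKn : K.Normal := (ker_normal (isIrr_isCharacter hψ)).comap ι
  have hnil : Group.IsNilpotent (M ⧸ K) := by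
    refine Subgroup.isNilpotent_of_ker_le_center (Abelianization.of (G := M ⧸ K)) ?_
    rw [Abelianization.ker_of, _root_.commutator_def, commutator_le]
    intro u _ v _
    induction u using QuotientGroup.induction_on with
    | H u =>
    induction v using QuotientGroup.induction_on with
    | H v =>
    rw [mem_center_iff]
    intro w
    induction w using QuotientGroup.induction_on with
    | H w =>
    have h3 : (ι (u * v * u⁻¹ * v⁻¹) : J) ∈ L.subgroupOf J := by
      rw [mem_subgroupOf]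
      exact commutator_mem_commutator u.2 v.2
    have h4 := hcen _ h3 (ι w)
    have h5 : w * (u * v * u⁻¹ * v⁻¹) * w⁻¹ * (u * v * u⁻¹ * v⁻¹)⁻¹ ∈ K := by
      rw [hK, map_mul, map_mul, map_mul, map_inv, map_inv]
      exact h4
    have h6 := (QuotientGroup.eq_one_iff _).2 h5
    rw [QuotientGroup.mk_mul, QuotientGroup.mk_mul, QuotientGroup.mk_mul, QuotientGroup.mk_inv,
      QuotientGroup.mk_inv, mul_inv_eq_one, mul_inv_eq_iff_eq_mul] at h6
    exact h6
  set c : J := x * y * x⁻¹ * y⁻¹ with hc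
  have hcL : (c : G) ∈ L := commutator_mem_commutator (mem_subgroupOf.1 hx) (mem_subgroupOf.1 hy)
  have h3 := hcon hcL
  rw [H597.RelThompson.Op_eq_map] at h3
  obtain ⟨cM, hcM, hcM'⟩ := h3
  have hιc : ι cM = c := Subtype.ext hcM'
  have h4 : (cM : M ⧸ K) ∈ pResidual q (M ⧸ K) :=
    Transfer.Residual.map_pResidual_le q (QuotientGroup.mk' K) ⟨cM, hcM, rfl⟩
  have h5 : (cM : M ⧸ K) ^ q = 1 := by
    rw [← QuotientGroup.mk_pow, QuotientGroup.eq_one_iff, hK, map_pow, hιc]
    exact hxyq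
  have h6 := eq_one_of_nilpotent hnil hq h4 h5
  rw [QuotientGroup.eq_one_iff, hK, hιc] at h6
  exact hxy h6

end Cfsg.Agent.H598.FourTwo
end

-- part: H598/FourThree
section
/-!
# Relative degrees: two degrees, third step
-/

set_option autoImplicit false

namespace Cfsg.Agent.H598.FourThree

open Cfsg Cfsg.Agent Cfsg.Agent.Characters Cfsg.Agent.Characters.Core
open Cfsg.Agent.H597.Base Cfsg.Agent.H598.FourCore Cfsg.Agent.H598.FourUtil
open Cfsg.Agent.H598.FourRel Cfsg.Agent.H598.FourTwo Subgroup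
open Cfsg.Agent.OddOrderCharacters.IndRes (res)
open Cfsg.Agent.OddOrderCharacters.NormalInduced (conjFn)
open Cfsg.Agent.OddOrderCharacters.PF9.CliffGen (inertia mem_inertia le_inertia resTo down)
open Cfsg.Agent.Blocks.Basic (charDegree_of_eq irr_one_eq_charDegree charDegree_pos)
open Cfsg.Agent.H597.RelThompson (Op Op_le Op_normal)
open scoped ComplexConjugate

universe u

variable {G : Type u} [Group G]

/-- **S3.** -/
theorem step_three [Fintype G] (M : Subgroup G) [hM : M.Normal] {g q : ℕ} (hq : q.Prime)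
    (X : Subgroup G) (hX : X ≤ Op q M)
    (hg : ∀ χ : G → ℂ, IsIrrCharacter G χ → Ov X χ → charDegree χ = g)
    (hab : ¬ ⁅M, M⁆ ≤ Op q M) {α : M → ℂ} (hα : IsIrrCharacter M α)
    (hov : Ov (X.subgroupOf M) α) : q ∣ charDegree α := by
  classical
  by_contra hd
  have := Fact.mk hq
  set K := Op q M with hK
  have hKn : K.Normal := Op_normal q M
  have hKM : K ≤ M := Op_le q M
  have := Fintype.ofFinite K
  have := Fintype.ofFinite M
  obtain ⟨k, hk⟩ := H597.RelThompson.relIndex_Op q M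
  have hk' : (K.subgroupOf M).index = q ^ k := hk
  -- the restriction
  set α₁ : K → ℂ := resTo hKM α with hα₁
  have hαN : IsIrrCharacter (K.subgroupOf M) (fun n : K.subgroupOf M => α n) := by
    refine H597.Degrees.isIrr_restrict_of_coprime _ hα ?_
    rw [hk']
    exact Nat.Coprime.pow_left _ ((hq.coprime_iff_not_dvd).2 hd)
  have hα₁i : IsIrrCharacter K α₁ := H591.Cliff.isIrr_up hKM hαN
  have hα₁d : charDegree α₁ = charDegree α := by
    apply charDegree_of_eq
    rw [← irr_one_eq_charDegree hα]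
    rfl
  set Y := inertia K α₁ with hY
  have := Fintype.ofFinite Y
  have hKY : K ≤ Y := le_inertia (isIrr_isClassFunction hα₁i)
  have hinv : ∀ y ∈ Y, conjFn K α₁ y = α₁ := fun y hy => hy
  have hMY : M ≤ Y := by
    intro m hm
    show conjFn K α₁ m = α₁
    funext n
    exact isIrr_isClassFunction hα ⟨n, hKM n.2⟩ ⟨m, hm⟩
  -- characters of `Y` over `α₁`
  have key : ∀ ζ : Y → ℂ, IsIrrCharacter Y ζ → classInner (resTo hKY ζ) α₁ ≠ 0 →
      Y.index * charDegree ζ = g := by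
    intro ζ hζ h0
    have hirr : IsIrrCharacter G (indFun Y ζ) :=
      H591.Cliff.irr_ind hα₁i (fun y hy => hy) hKY hζ h0
    rw [← charDegree_ind Y hζ]
    refine hg _ hirr ?_
    by_contra hcon
    unfold Ov at hcon
    push Not at hcon
    obtain ⟨x, hx, hne⟩ := hov
    apply hne
    have hxX : (x : G) ∈ X := mem_subgroupOf.1 hx
    have hxK : (x : G) ∈ K := hX hxX
    have h1 := ker_of_indFun Y hζ hirr ⟨x, hKY hxK⟩ (hcon x hxX)
    have h2 := prop_of_invariant hKY hα₁i hinv hζ h0 ⟨x, hxK⟩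
    have h3 : ζ 1 * α₁ 1 = ζ 1 * α₁ ⟨x, hxK⟩ := by
      rw [← h2, ← h1]
    exact (mul_left_cancel₀ (isIrr_apply_one_ne_zero hζ) h3).symm
  -- the group `Y`
  set K' : Subgroup Y := K.subgroupOf Y with hK'
  have := Fintype.ofFinite K'
  set θ' : K' → ℂ := down K Y α₁ with hθ'
  have hθ'i : IsIrrCharacter K' θ' := H591.Cliff.isIrr_down hKY hα₁i
  have hθ'd : charDegree θ' = charDegree α₁ := by
    apply charDegree_of_eq
    rw [← irr_one_eq_charDegree hα₁i]
    rfl
  have htrans : ∀ (ζ : Y → ℂ), classInner (res K' ζ) θ' ≠ 0 → classInner (resTo hKY ζ) α₁ ≠ 0 := by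
    intro ζ h
    rwa [← H591.Cliff.classInner_down_res hKY]
  -- a character of degree prime to `q`
  obtain ⟨ζ, hζ, hζ1, hζq⟩ : ∃ ζ : Y → ℂ, IsIrrCharacter Y ζ ∧ classInner (resTo hKY ζ) α₁ ≠ 0 ∧
      ¬ q ∣ charDegree ζ := by
    obtain ⟨S⟩ : Nonempty (Sylow q Y) := inferInstance
    set W : Subgroup Y := (S : Subgroup Y) ⊔ K' with hW
    have := Fintype.ofFinite W
    have hK'W : K' ≤ W := le_sup_right
    have hWi : ¬ q ∣ W.index := fun h => S.not_dvd_index (h.trans (index_dvd_of_le le_sup_left))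
    have hrel : ∃ j, K'.relIndex W = q ^ j := by
      obtain ⟨n, hn⟩ := IsPGroup.iff_card.1 S.2
      have h1 : K'.relIndex W = K'.relIndex (S : Subgroup Y) := relIndex_sup_right _ _
      have h2 : K'.relIndex (S : Subgroup Y) ∣ Nat.card S := by
        rw [relIndex]
        exact index_dvd_card _
      rw [hn] at h2
      obtain ⟨j, -, hj⟩ := (Nat.dvd_prime_pow hq).1 h2
      exact ⟨j, h1.trans hj⟩
    have hres : pResidual q K' = ⊤ := by
      let e : K' ≃* K := subgroupOfEquivOfLe hKY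
      have h1 := Transfer.Residual.map_pResidual_equiv q e
      rw [H597.RelThompson.pResidual_Op] at h1
      rw [eq_top_iff]
      intro x _
      have h2 : e x ∈ (pResidual q K').map e.toMonoidHom := by rw [h1]; exact mem_top _
      obtain ⟨y, hy, hyx⟩ := h2
      have h3 : y = x := e.injective hyx
      rwa [← h3]
    obtain ⟨ξ, hξ, hξ'⟩ := H597.RelThompson.exists_extension q K' W hK'W hrel hres hθ'i
      (by rw [hθ'd, hα₁d]; exact hd) (fun y _ n => by
        have h1 := (H591.Cliff.conjFn_down hKY α₁ y).2 (hinv y y.2)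
        exact congrFun h1 n)
    have hξd : charDegree ξ = charDegree θ' := by
      apply charDegree_of_eq
      rw [← irr_one_eq_charDegree hθ'i, ← hξ' 1]
      rfl
    obtain ⟨ζ, hζ, h1, h2⟩ := H597.RelThompson.exists_over_not_dvd q W hWi hξ
      (by rw [hξd, hθ'd, hα₁d]; exact hd)
    refine ⟨ζ, hζ, htrans ζ ?_, h2⟩
    refine over_trans hK'W (X := res W ζ) (Clifford.isCharacter_restrict W (isIrr_isCharacter hζ))
      hξ h1 (isIrr_isCharacter hθ'i) ?_
    have h3 : resTo hK'W ξ = θ' := by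
      funext n
      exact hξ' n
    rw [h3, classInner_irr_self hθ'i]
    exact one_ne_zero
  -- a character of degree divisible by `q`
  obtain ⟨z, hz, hzK⟩ : ∃ z ∈ ⁅M, M⁆, z ∉ K := by
    by_contra hcon
    push Not at hcon
    exact hab hcon
  have hzM : z ∈ M := (commutator_le_left M M) hz
  obtain ⟨β, hβ, hβN, hβz⟩ := exists_irr_quot (K.subgroupOf M) (x := ⟨z, hzM⟩)
    (fun h => hzK (mem_subgroupOf.1 h))
  have hβ1 : charDegree β ≠ 1 := by
    intro h1
    apply hβz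
    exact H597.Taketa.commutator_le_ker_of_linear hβ h1 _ ((H597.IndexP.mem_commutator_iff M).2 hz)
  have hβq : q ∣ charDegree β := by
    obtain ⟨ψ, hψ, ⟨c, hc, hc'⟩, hψ'⟩ := H597.ThreeDegB.exists_under (K.subgroupOf M) hβ
    have h1 : charDegree ψ = 1 :=
      H597.RelThompson.charDegree_eq_one hψ fun k _ => hψ' k (hβN k k.2)
    rw [h1, one_mul] at hc
    rw [hk'] at hc'
    obtain ⟨j, -, hj⟩ := (Nat.dvd_prime_pow hq).1 hc'
    rw [hc, hj]
    refine dvd_pow_self q ?_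
    rintro rfl
    exact hβ1 (by rw [hc, hj, pow_zero])
  have hβα : IsIrrCharacter M (β * α) := H597.FrobC.isIrr_mul_of_restrict (K.subgroupOf M) hα hαN
    hβ hβN
  have hβαd : charDegree (β * α) = charDegree β * charDegree α := H597.FrobC.charDegree_mul hα hβ
  set M' : Subgroup Y := M.subgroupOf Y with hM'
  have := Fintype.ofFinite M'
  have hdown : IsIrrCharacter M' (down M Y (β * α)) := H591.Cliff.isIrr_down hMY hβα
  obtain ⟨ζ', hζ', h1⟩ := CharDeep.PowerDegrees.exists_irr_over M' hdown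
  obtain ⟨c, hc, -⟩ := H597.Degrees.degree_over M' hζ' hdown h1
  have hζ'q : q ∣ charDegree ζ' := by
    have h2 : charDegree (down M Y (β * α)) = charDegree (β * α) := by
      apply charDegree_of_eq
      rw [← irr_one_eq_charDegree hβα]
      rfl
    rw [hc, h2, hβαd, mul_assoc]
    exact Dvd.dvd.mul_right hβq _
  have hK'M' : K' ≤ M' := comap_mono hKM
  have hζ'1 : classInner (resTo hKY ζ') α₁ ≠ 0 := by
    apply htrans
    refine over_trans hK'M' (X := res M' ζ')
      (Clifford.isCharacter_restrict M' (isIrr_isCharacter hζ')) hdown h1 (isIrr_isCharacter hθ'i) ?_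
    have h3 : resTo hK'M' (down M Y (β * α)) = (β 1) • θ' := by
      funext n
      have h4 := hβN ⟨(n : Y), hKM (mem_subgroupOf.1 n.2)⟩ (mem_subgroupOf.2 (mem_subgroupOf.1 n.2))
      show β _ * α _ = β 1 * α _
      rw [← h4]
    rw [h3, classInner_smul_left, classInner_irr_self hθ'i, mul_one]
    exact isIrr_apply_one_ne_zero hβ
  have h2 := key ζ hζ hζ1
  have h3 := key ζ' hζ' hζ'1
  rw [← h2] at h3
  have h4 := Nat.eq_of_mul_eq_mul_left (Nat.pos_of_ne_zero index_ne_zero_of_finite) h3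
  exact hζq (h4 ▸ hζ'q)

end Cfsg.Agent.H598.FourThree
end

-- part: H598/FourFour
section
/-!
# Relative degrees: two degrees, fourth step
-/

set_option autoImplicit false

namespace Cfsg.Agent.H598.FourFour

open Cfsg Cfsg.Agent Cfsg.Agent.Characters Cfsg.Agent.Characters.Core
open Cfsg.Agent.H597.Base Cfsg.Agent.H598.FourCore Cfsg.Agent.H598.FourUtil
open Cfsg.Agent.H598.FourRel Cfsg.Agent.H598.FourTwo Subgroup
open Cfsg.Agent.OddOrderCharacters.IndRes (res)
open Cfsg.Agent.OddOrderCharacters.NormalInduced (conjFn)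
open Cfsg.Agent.OddOrderCharacters.PF9.CliffGen (inertia mem_inertia le_inertia resTo down)
open Cfsg.Agent.Blocks.Basic (charDegree_of_eq irr_one_eq_charDegree charDegree_pos)
open Cfsg.Agent.H597.RelThompson (Op Op_le Op_normal)
open scoped ComplexConjugate

universe u

variable {G : Type u} [Group G]

theorem dvd_of_sylow [Fintype G] {M : Subgroup G} {q b : ℕ} (hq : q.Prime)
    (Q : Subgroup G) (hQ : ¬ q ∣ Q.index)
    (h : ∀ χ : G → ℂ, IsIrrCharacter G χ → Ov M χ → q ^ b ∣ charDegree χ)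
    {κ : Q → ℂ} (hκ : IsIrrCharacter Q κ)
    (hov : Ov (M.subgroupOf Q) κ) : q ^ b ∣ charDegree κ := by
  have h1 := dvd_ind (M := M) Q hκ hov h
  exact (Nat.Coprime.pow_left _ ((hq.coprime_iff_not_dvd).2 hQ)).dvd_of_dvd_mul_left h1

theorem degree_pow {q : ℕ} (hq : q.Prime) {P : Type*} [Group P] [Finite P] (hP : IsPGroup q P)
    {κ : P → ℂ} (hκ : IsIrrCharacter P κ) : ∃ j, charDegree κ = q ^ j := by
  have := Fact.mk hq
  obtain ⟨n, hn⟩ := IsPGroup.iff_card.1 hP
  have h1 := H597.Degrees.charDegree_dvd_card hκ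
  rw [hn] at h1
  obtain ⟨j, -, hj⟩ := (Nat.dvd_prime_pow hq).1 h1
  exact ⟨j, hj⟩

/-- **S4a.** -/
theorem step_four_a [Fintype G] (M X : Subgroup G) [hMn : M.Normal] [hXn : X.Normal]
    (hXM : X ≤ ⁅M, M⁆) (hX : X ≠ ⊥) {q b g : ℕ} (hq : q.Prime) (hM : IsPGroup q M)
    (h : ∀ χ : G → ℂ, IsIrrCharacter G χ → Ov M χ → q ^ b ∣ charDegree χ)
    (hg : ∀ χ : G → ℂ, IsIrrCharacter G χ → Ov X χ → charDegree χ = g)
    (hgb : ¬ q ^ (b + 1) ∣ g) : False := by
  classical
  have := Fact.mk hq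
  obtain ⟨Q, hQp, hQi, hMQ⟩ : ∃ Q : Subgroup G, IsPGroup q Q ∧ ¬ q ∣ Q.index ∧ M ≤ Q := by
    obtain ⟨Q, hMQ⟩ := hM.exists_le_sylow
    exact ⟨Q, Q.2, Q.not_dvd_index, hMQ⟩
  have := Fintype.ofFinite Q
  have := Fintype.ofFinite X
  have hM' : ⁅M, M⁆ ≤ M := commutator_le_left M M
  obtain ⟨x, hx, hx1⟩ : ∃ x ∈ X, x ≠ 1 := by
    by_contra hcon
    push Not at hcon
    exact hX ((Subgroup.eq_bot_iff_forall _).2 hcon)
  obtain ⟨χ, hχ, hχx⟩ : ∃ χ : G → ℂ, IsIrrCharacter G χ ∧ χ x ≠ χ 1 := by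
    by_contra hcon
    push Not at hcon
    exact hx1 (eq_one_of_forall hcon)
  have hχg := hg χ hχ ⟨x, hx, hχx⟩
  have hXQ : X ≤ Q := hXM.trans (hM'.trans hMQ)
  have hres := Clifford.isCharacter_restrict Q (isIrr_isCharacter hχ)
  obtain ⟨τ, hτ, hτc, hτd⟩ : ∃ τ : Q → ℂ, IsIrrCharacter Q τ ∧
      classInner (res Q χ) τ ≠ 0 ∧ ¬ q ^ (b + 1) ∣ charDegree τ := by
    by_contra hcon
    push Not at hcon
    apply hgb
    refine dvd_of_forall (X := res Q χ) hres (n := g) ?_ hcon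
    show χ 1 = g
    rw [irr_one_eq_charDegree hχ, hχg]
  have hτov : Ov (X.subgroupOf Q) τ := by
    by_contra hcon
    unfold Ov at hcon
    push Not at hcon
    have h1 : classInner (resTo hXQ (res Q χ)) (1 : X → ℂ) ≠ 0 := by
      refine over_trans hXQ hres hτ hτc (isIrr_isCharacter isIrr_one) ?_
      have h2 : resTo hXQ τ = (τ 1) • (1 : X → ℂ) := by
        funext n
        show τ _ = τ 1 * 1
        rw [mul_one]
        exact hcon _ (mem_subgroupOf.2 n.2)
      rw [h2, classInner_smul_left, classInner_irr_self isIrr_one, mul_one]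
      exact isIrr_apply_one_ne_zero hτ
    apply h1
    have h3 := H597.Base.sum_apply_eq_zero X hχ ⟨x, hx, hχx⟩
    rw [classInner_def]
    have h4 : ∑ k : X, resTo hXQ (res Q χ) k * conj ((1 : X → ℂ) k) =
        ∑ k : X, χ k := by
      refine Finset.sum_congr rfl fun k _ => ?_
      rw [Pi.one_apply, map_one, mul_one]
      rfl
    rw [h4, h3, mul_zero]
  have hovM : ∀ κ : Q → ℂ, Ov (X.subgroupOf Q) κ → Ov (M.subgroupOf Q) κ := by
    rintro κ ⟨y, hy, hne⟩
    exact ⟨y, mem_subgroupOf.2 (hM' (hXM (mem_subgroupOf.1 hy))), hne⟩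
  obtain ⟨j, hj⟩ := degree_pow hq hQp hτ
  have hτb : charDegree τ = q ^ b := by
    have h1 := dvd_of_sylow hq Q hQi h hτ (hovM τ hτov)
    rw [hj] at h1 hτd ⊢
    have h2 := (Nat.pow_dvd_pow_iff_le_right hq.one_lt).1 h1
    have h3 : ¬ b + 1 ≤ j := fun h => hτd (pow_dvd_pow q h)
    rw [show j = b by omega]
  have hnil : Group.IsNilpotent (Q ⧸ (⊥ : Subgroup Q)) := by
    have : Group.IsNilpotent Q := hQp.isNilpotent
    infer_instance
  obtain ⟨H, f, -, hind⟩ := H597.Taketa.exists_linear_of_abelian_nilpotent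
    (⊥ : Subgroup Q) (fun a ha b hb => by
      rw [mem_bot.1 ha, mem_bot.1 hb]) hnil hτ
  have hMH : M.subgroupOf Q ≤ H := by
    refine le_of_indFun (M.subgroupOf Q) (χ := τ) (fun κ hκ hlt hov => ?_) H
      (Linear.isIrrCharacter_hom f) hind
    have h1 := Nat.le_of_dvd (charDegree_pos hκ) (dvd_of_sylow hq Q hQi h hκ hov)
    rw [hτb] at hlt
    omega
  obtain ⟨y, hy, hne⟩ := hτov
  apply hne
  have hyc : y ∈ ⁅M.subgroupOf Q, M.subgroupOf Q⁆ := by
    rw [← commutator_subgroupOf hMQ, mem_subgroupOf]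
    exact hXM (mem_subgroupOf.1 hy)
  have h1 := H597.ThreeDegA.indFun_eq_of_commutator H f (M.subgroupOf Q) hMH hyc
  rwa [hind] at h1

/-- Irreducible characters over a nontrivial character are nontrivial. -/
theorem ov_ind [Fintype G] {X K Y : Subgroup G} [K.Normal] [Fintype K] [Fintype Y]
    (hKY : K ≤ Y) {θ : K → ℂ} (hθ : IsIrrCharacter K θ) (hinv : ∀ y ∈ Y, conjFn K θ y = θ)
    (hov : ∃ x : K, (x : G) ∈ X ∧ θ x ≠ θ 1) {ζ : Y → ℂ} (hζ : IsIrrCharacter Y ζ)
    (h0 : classInner (resTo hKY ζ) θ ≠ 0) (hirr : IsIrrCharacter G (indFun Y ζ)) :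
    Ov X (indFun Y ζ) := by
  by_contra hcon
  unfold Ov at hcon
  push Not at hcon
  obtain ⟨x, hx, hne⟩ := hov
  apply hne
  have h1 := ker_of_indFun Y hζ hirr ⟨x, hKY x.2⟩ (hcon x hx)
  have h2 := prop_of_invariant hKY hθ hinv hζ h0 x
  have h3 : ζ 1 * θ 1 = ζ 1 * θ x := by
    rw [← h2, ← h1]
  exact (mul_left_cancel₀ (isIrr_apply_one_ne_zero hζ) h3).symm

/-- A complement for a minimal normal subgroup. -/
theorem exists_complement [Finite G] (L X K : Subgroup G) [hL : L.Normal] [hX : X.Normal]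
    (hXL : ⁅L, L⁆ ≤ X) (hXL' : X ≤ L) (hXab : ⁅X, X⁆ = ⊥) (hXb : X ≠ ⊥)
    (hmin : ∀ R : Subgroup G, R.Normal → R ≠ ⊥ → X ≤ R) {q : ℕ} (hq : q.Prime)
    (hcop : (Nat.card X).Coprime q) (hK : ∀ x ∈ L, (orderOf x).Coprime q → x ∈ K) (hLK : ¬ L ≤ K) :
    ∃ W : Subgroup G, X ⊓ W = ⊥ ∧ X ⊔ W = ⊤ := by
  classical
  have := Fact.mk hq
  obtain ⟨l, hl, hlK⟩ : ∃ l ∈ L, l ∉ K := by
    by_contra hcon
    push Not at hcon
    exact hLK hcon
  set π := QuotientGroup.mk' X with hπ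
  have hcomm : ∀ a ∈ L, ∀ b ∈ L, Commute (π a) (π b) := by
    intro a ha b hb
    have h1 : π (a * b * a⁻¹ * b⁻¹) = 1 :=
      (QuotientGroup.eq_one_iff _).2 (hXL (commutator_mem_commutator ha hb))
    rw [map_mul, map_mul, map_mul, map_inv, map_inv, mul_inv_eq_one, mul_inv_eq_iff_eq_mul] at h1
    exact h1
  -- the `q`-part of `L` modulo `X`
  let R : Subgroup G :=
    { carrier := {a | a ∈ L ∧ ∃ k : ℕ, a ^ q ^ k ∈ X}
      mul_mem' := by
        rintro a b ⟨ha, i, hi⟩ ⟨hb, j, hj⟩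
        refine ⟨L.mul_mem ha hb, i + j, ?_⟩
        have h2 : π (a ^ q ^ i) = 1 := (QuotientGroup.eq_one_iff _).2 hi
        have h3 : π (b ^ q ^ j) = 1 := (QuotientGroup.eq_one_iff _).2 hj
        have h1 : π ((a * b) ^ q ^ (i + j)) = 1 := by
          rw [map_pow, map_mul, (hcomm a ha b hb).mul_pow, pow_add, pow_mul, mul_comm (q ^ i),
            pow_mul (π b), ← map_pow, ← map_pow π b, h2, h3, one_pow, one_pow, one_mul]
        exact (QuotientGroup.eq_one_iff _).1 h1
      one_mem' := ⟨L.one_mem, 0, by rw [one_pow]; exact X.one_mem⟩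
      inv_mem' := by
        rintro a ⟨ha, i, hi⟩
        exact ⟨L.inv_mem ha, i, by rw [inv_pow]; exact X.inv_mem hi⟩ }
  have hRn : R.Normal := by
    refine ⟨?_⟩
    rintro a ⟨ha, i, hi⟩ g
    exact ⟨hL.conj_mem a ha g, i, by rw [conj_pow]; exact hX.conj_mem _ hi g⟩
  have hXR : X ≤ R := fun x hx => ⟨hXL' hx, 0, by rw [pow_zero, pow_one]; exact hx⟩
  obtain ⟨S⟩ : Nonempty (Sylow q R) := inferInstance
  set P : Subgroup G := (S : Subgroup R).map R.subtype with hP
  have hPp : IsPGroup q P := S.2.map R.subtype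
  have hFr : normalizer (P : Set G) ⊔ R = ⊤ := S.normalizer_sup_eq_top
  -- `P ≠ 1`
  have hPb : P ≠ ⊥ := by
    intro hPb
    have h1 : (S : Subgroup R) = ⊥ := by
      rw [hP, Subgroup.map_eq_bot_iff_of_injective _ R.subtype_injective] at hPb
      exact hPb
    have h2 : ¬ q ∣ Nat.card R := by
      have h3 := S.not_dvd_index
      rwa [h1, index_bot] at h3
    apply hlK
    apply hK l hl
    obtain ⟨k, m, hm, hk⟩ := Nat.exists_eq_pow_mul_and_not_dvd (orderOf_pos l).ne' q hq.ne_one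
    have h4 : l ^ m ∈ R := by
      refine ⟨L.pow_mem hl m, k, ?_⟩
      rw [← pow_mul, mul_comm, ← hk, pow_orderOf_eq_one]
      exact X.one_mem
    have h5 : orderOf (l ^ m) = q ^ k := by
      have hm0 : m ≠ 0 := by
        rintro rfl
        exact hm (dvd_zero q)
      rw [orderOf_pow' l hm0, hk, Nat.gcd_mul_left_left, Nat.mul_div_cancel _ (Nat.pos_of_ne_zero hm0)]
    have h6 : orderOf (l ^ m) ∣ Nat.card R := Subgroup.orderOf_dvd_natCard R h4
    have h7 : k = 0 := by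
      by_contra hk0
      exact h2 ((dvd_pow_self q hk0).trans (h5 ▸ h6))
    rw [hk, h7, pow_zero, one_mul]
    exact ((hq.coprime_iff_not_dvd).2 hm).symm
  -- `R = P X`
  have hRPX : R ≤ P ⊔ X := by
    have h1 : (S : Subgroup R) ⊔ X.subgroupOf R = ⊤ := by
      have h2 : ¬ q ∣ ((S : Subgroup R) ⊔ X.subgroupOf R).index := fun h =>
        S.not_dvd_index (h.trans (index_dvd_of_le le_sup_left))
      have h3 : IsPGroup q (R ⧸ X.subgroupOf R) := by
        intro y
        induction y using QuotientGroup.induction_on with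
        | H y =>
        obtain ⟨-, k, hk⟩ := y.2
        refine ⟨k, ?_⟩
        rw [← QuotientGroup.mk_pow, QuotientGroup.eq_one_iff, mem_subgroupOf]
        exact hk
      obtain ⟨n, hn⟩ := IsPGroup.iff_card.1 h3
      have h4 : ((S : Subgroup R) ⊔ X.subgroupOf R).index ∣ q ^ n := by
        rw [← hn]
        exact index_dvd_of_le le_sup_right
      obtain ⟨j, -, hj⟩ := (Nat.dvd_prime_pow hq).1 h4
      have h5 : j = 0 := by
        by_contra hj0
        exact h2 (hj ▸ dvd_pow_self q hj0)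
      rw [h5, pow_zero, index_eq_one] at hj
      exact hj
    intro r hr
    have h2 : (⟨r, hr⟩ : R) ∈ (S : Subgroup R) ⊔ X.subgroupOf R := by rw [h1]; exact mem_top _
    have h3 : ((S : Subgroup R) ⊔ X.subgroupOf R).map R.subtype ≤ P ⊔ X := by
      rw [Subgroup.map_sup]
      exact sup_le_sup le_rfl (map_le_iff_le_comap.2 le_rfl)
    exact h3 ⟨_, h2, rfl⟩
  have hsup : X ⊔ normalizer (P : Set G) = ⊤ := by
    rw [eq_top_iff, ← hFr]
    exact sup_le le_sup_right (hRPX.trans (sup_le (le_normalizer.trans le_sup_right) le_sup_left))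
  refine ⟨normalizer (P : Set G), ?_, hsup⟩
  by_contra hne
  have hn : (X ⊓ normalizer (P : Set G)).Normal := by
    rw [← normalizer_eq_top_iff, eq_top_iff, ← hsup]
    refine sup_le ?_ ?_
    · intro x hx
      rw [mem_normalizer_iff]
      intro y
      have hxy : ∀ y ∈ X, x * y * x⁻¹ = y := by
        intro y hy
        have h1 : x * y * x⁻¹ * y⁻¹ ∈ ⁅X, X⁆ := commutator_mem_commutator hx hy
        rw [hXab, mem_bot, mul_inv_eq_one] at h1
        exact h1
      constructor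
      · intro hy
        rw [hxy y hy.1]
        exact hy
      · intro hy
        have h1 : y ∈ X := by
          have := X.mul_mem (X.mul_mem (X.inv_mem hx) hy.1) hx
          have e : x⁻¹ * (x * y * x⁻¹) * x = y := by group
          rwa [e] at this
        rw [hxy y h1] at hy
        exact hy
    · intro w hw
      rw [mem_normalizer_iff]
      intro y
      refine and_congr ?_ ?_
      · constructor
        · intro hy
          exact hX.conj_mem y hy w
        · intro hy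
          have := hX.conj_mem _ hy w⁻¹
          have e : w⁻¹ * (w * y * w⁻¹) * w⁻¹⁻¹ = y := by group
          rwa [e] at this
      · constructor
        · intro hy
          exact (normalizer (P : Set G)).mul_mem ((normalizer (P : Set G)).mul_mem hw hy)
            ((normalizer (P : Set G)).inv_mem hw)
        · intro hy
          have := (normalizer (P : Set G)).mul_mem ((normalizer (P : Set G)).mul_mem
            ((normalizer (P : Set G)).inv_mem hw) hy) hw
          have e : w⁻¹ * (w * y * w⁻¹) * w = y := by group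
          rwa [e] at this
  have h1 : X ≤ normalizer (P : Set G) := (hmin _ hn hne).trans inf_le_right
  have h2 : normalizer (P : Set G) = ⊤ := by
    rw [← hsup]
    exact (sup_eq_right.2 h1).symm
  have h3 : P.Normal := normalizer_eq_top_iff.1 h2
  have h4 := hmin P h3 hPb
  apply hXb
  have h5 : IsPGroup q X := hPp.to_le h4
  obtain ⟨n, hn'⟩ := IsPGroup.iff_card.1 h5
  rw [hn'] at hcop
  have h6 : n = 0 := by
    by_contra hn0
    exact hq.one_lt.ne' (Nat.Coprime.eq_one_of_dvd hcop.symm (dvd_pow_self q hn0))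
  rw [h6, pow_zero] at hn'
  exact Subgroup.card_eq_one.1 hn'

/-- **S4b.** -/
theorem step_four_b [Fintype G] [Group.IsSolvable G] (M X : Subgroup G) [hMn : M.Normal]
    [hXn : X.Normal] (hX : X = ⁅⁅M, M⁆, ⁅M, M⁆⁆) (hXb : X ≠ ⊥)
    (hmin : ∀ R : Subgroup G, R.Normal → R ≠ ⊥ → X ≤ R) {q b g : ℕ} (hq : q.Prime)
    (h : ∀ χ : G → ℂ, IsIrrCharacter G χ → Ov M χ → q ^ b ∣ charDegree χ)
    (hg : ∀ χ : G → ℂ, IsIrrCharacter G χ → Ov X χ → charDegree χ = g)
    (hgb : ¬ q ^ (b + 1) ∣ g) (hcop : (Nat.card (Op q M)).Coprime q) (hXK : X ≤ Op q M)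
    (hnab : ¬ ⁅M, M⁆ ≤ Op q M) : False := by
  classical
  have := Fact.mk hq
  have := Fintype.ofFinite X
  set L := ⁅M, M⁆ with hL
  set K := Op q M with hK
  have hKn : K.Normal := Op_normal q M
  have hLM : L ≤ M := commutator_le_left M M
  have hXL : X ≤ L := by rw [hX]; exact commutator_le_left L L
  have hXab : ⁅X, X⁆ = ⊥ := one_degree X hg
  have hXcop : (Nat.card X).Coprime q := Nat.Coprime.coprime_dvd_left (card_dvd_of_le hXK) hcop
  obtain ⟨W, hW1, hW2⟩ := exists_complement L X K hX.ge hXL hXab hXb hmin hq hXcop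
    (fun x hx hxo => subset_closure ⟨hLM hx, hxo⟩) hnab
  -- a nonprincipal linear character
  obtain ⟨x, hx, hx1⟩ : ∃ x ∈ X, x ≠ 1 := by
    by_contra hcon
    push Not at hcon
    exact hXb ((Subgroup.eq_bot_iff_forall _).2 hcon)
  obtain ⟨χ, hχ, hχx⟩ : ∃ χ : G → ℂ, IsIrrCharacter G χ ∧ χ x ≠ χ 1 := by
    by_contra hcon
    push Not at hcon
    exact hx1 (eq_one_of_forall hcon)
  obtain ⟨lam, hlam, -, hlamx⟩ := H597.ThreeDegB.exists_under_ne X hχ (x := ⟨x, hx⟩) hχx
  have hlam1 : charDegree lam = 1 := by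
    refine H597.RelThompson.charDegree_eq_one hlam fun k hk => ?_
    have h1 := (H597.IndexP.mem_commutator_iff X).1 hk
    rw [hXab, mem_bot] at h1
    have h2 : k = 1 := Subtype.ext h1
    rw [h2]
  obtain ⟨f, rfl⟩ := Linear.exists_hom_of_isIrrCharacter hlam
    (by rw [irr_one_eq_charDegree hlam, hlam1, Nat.cast_one])
  set lam : X → ℂ := fun y => ((f y : ℂˣ) : ℂ) with hlamdef
  set T := inertia X lam with hT
  have := Fintype.ofFinite T
  have hXT : X ≤ T := le_inertia (isIrr_isClassFunction hlam)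
  have hinv : ∀ y ∈ T, conjFn X lam y = lam := fun y hy => hy
  -- extension to `T`
  obtain ⟨F, hF1, -⟩ := OddOrderCharacters.SplitExtension.exists_hom_of_complement (G := T) (U := ℂˣ)
    (X.subgroupOf T) (W.subgroupOf T)
    (by
      rw [eq_bot_iff]
      intro y hy
      have h1 : (y : G) ∈ X ⊓ W := ⟨mem_subgroupOf.1 hy.1, mem_subgroupOf.1 hy.2⟩
      rw [hW1, mem_bot] at h1
      exact Subtype.ext h1)
    (by
      rw [eq_top_iff]
      rintro ⟨y, hy⟩ -
      have h1 : y ∈ X ⊔ W := by rw [hW2]; exact mem_top y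
      obtain ⟨a, ha, w, hw, rfl⟩ := mem_sup_of_normal_left.1 h1
      have hwT : w ∈ T := by
        have := T.mul_mem (T.inv_mem (hXT ha)) hy
        rwa [inv_mul_cancel_left] at this
      have h2 : (⟨a * w, hy⟩ : T) = ⟨a, hXT ha⟩ * ⟨w, hwT⟩ := rfl
      rw [h2]
      exact Subgroup.mul_mem_sup (mem_subgroupOf.2 ha) (mem_subgroupOf.2 hw))
    (f.comp (subgroupOfEquivOfLe hXT).toMonoidHom) 1
    (by
      intro w n
      have h1 := congrFun (hinv _ w.1.2) ⟨(n : T), mem_subgroupOf.1 n.2⟩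
      rw [MonoidHom.one_apply, one_mul, inv_one, mul_one]
      exact Units.ext h1)
  have hF : ∀ n : X, F ⟨n, hXT n.2⟩ = f n := fun n => hF1 ⟨⟨n, hXT n.2⟩, mem_subgroupOf.2 n.2⟩
  have key : ∀ β : T → ℂ, IsIrrCharacter T β → (∀ n ∈ X.subgroupOf T, β n = β 1) →
      T.index * charDegree β = g := by
    intro β hβ hβX
    have h1 := H597.IndexP.isIrr_mul_hom hβ F
    have h2 : classInner (resTo hXT (fun t => (F t : ℂ) * β t)) lam ≠ 0 := by
      have h3 : resTo hXT (fun t => (F t : ℂ) * β t) = (β 1) • lam := by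
        funext n
        show (F ⟨n, _⟩ : ℂ) * β ⟨n, _⟩ = β 1 * (f n : ℂ)
        rw [hF, hβX _ (mem_subgroupOf.2 n.2), mul_comm]
      rw [h3, classInner_smul_left, classInner_irr_self hlam, mul_one]
      exact isIrr_apply_one_ne_zero hβ
    have hirr : IsIrrCharacter G (indFun T (fun t => (F t : ℂ) * β t)) :=
      H591.Cliff.irr_ind hlam (fun y hy => hy) hXT h1 h2
    have h3 := hg _ hirr (ov_ind hXT hlam hinv ⟨⟨x, hx⟩, hx, hlamx⟩ h1 h2 hirr)
    have h4 : charDegree (fun t => (F t : ℂ) * β t) = charDegree β := by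
      apply charDegree_of_eq
      show ((F 1 : ℂˣ) : ℂ) * β 1 = _
      rw [map_one, Units.val_one, one_mul, irr_one_eq_charDegree hβ]
    rwa [charDegree_ind T h1, h4] at h3
  have hT1 : T.index = g := by
    have h1 := key 1 isIrr_one (fun _ _ => rfl)
    have h2 : charDegree (1 : T → ℂ) = 1 := charDegree_of_eq (by simp)
    rwa [h2, mul_one] at h1
  have hTpos : 0 < T.index := Nat.pos_of_ne_zero index_ne_zero_of_finite
  have hTab : ∀ a ∈ T, ∀ b ∈ T, a * b * a⁻¹ * b⁻¹ ∈ X := by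
    have h1 : ∀ χ : T ⧸ (X.subgroupOf T) → ℂ, IsIrrCharacter (T ⧸ (X.subgroupOf T)) χ →
        charDegree χ = 1 := by
      intro χ hχ
      have h2 := isIrr_comp (QuotientGroup.mk' (X.subgroupOf T)) (QuotientGroup.mk'_surjective _) hχ
      have h3 := key _ h2 (fun n hn => by
        show χ (n : T ⧸ (X.subgroupOf T)) = χ ((1 : T) : T ⧸ (X.subgroupOf T))
        rw [(QuotientGroup.eq_one_iff n).2 hn]
        rfl)
      have h4 : charDegree (χ ∘ QuotientGroup.mk' (X.subgroupOf T)) = charDegree χ := by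
        apply charDegree_of_eq
        rw [← irr_one_eq_charDegree hχ]
        rfl
      rw [h4] at h3
      exact Nat.eq_of_mul_eq_mul_left hTpos (by rw [h3, mul_one, hT1])
    intro a ha b hb
    have h2 := H597.Degrees.comm_of_forall_one h1 ((⟨a, ha⟩ : T) : T ⧸ (X.subgroupOf T))
      ((⟨b, hb⟩ : T) : T ⧸ (X.subgroupOf T))
    have h3 : (((⟨a, ha⟩ : T) * ⟨b, hb⟩ * (⟨a, ha⟩ : T)⁻¹ * (⟨b, hb⟩ : T)⁻¹ : T) :
        T ⧸ (X.subgroupOf T)) = 1 := by
      rw [QuotientGroup.mk_mul, QuotientGroup.mk_mul, QuotientGroup.mk_mul, QuotientGroup.mk_inv,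
        QuotientGroup.mk_inv, mul_inv_eq_one, mul_inv_eq_iff_eq_mul]
      exact h2
    exact mem_subgroupOf.1 ((QuotientGroup.eq_one_iff _).1 h3)
  -- a Sylow subgroup of `T`
  obtain ⟨S⟩ : Nonempty (Sylow q T) := inferInstance
  set B : Subgroup G := (S : Subgroup T).map T.subtype with hB
  have hBp : IsPGroup q B := S.2.map _
  have hBT : B ≤ T := map_subtype_le _
  have hBab : ∀ a ∈ B, ∀ b ∈ B, a * b * a⁻¹ * b⁻¹ = 1 := by
    intro a ha b hb
    have h1 := hTab a (hBT ha) b (hBT hb)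
    have h2 : a * b * a⁻¹ * b⁻¹ ∈ B :=
      B.mul_mem (B.mul_mem (B.mul_mem ha hb) (B.inv_mem ha)) (B.inv_mem hb)
    exact PElem.PE.eq_one (PElem.PE.of_isPGroup hBp h2) h1 hXcop
  set π := QuotientGroup.mk' K with hπ
  have hMp : IsPGroup q (M.map π) := by
    rintro ⟨_, m, hm, rfl⟩
    obtain ⟨k, hk⟩ := Transfer.Residual.exists_pow_mem_pResidual q (⟨m, hm⟩ : M)
    refine ⟨k, Subtype.ext ?_⟩
    rw [Subgroup.coe_pow, OneMemClass.coe_one, ← map_pow]
    refine (QuotientGroup.eq_one_iff _).2 ?_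
    rw [hK, H597.RelThompson.Op_eq_map]
    exact ⟨_, hk, rfl⟩
  obtain ⟨Q, hQp, hQi, hBQ, hMQ⟩ : ∃ Q : Subgroup G, IsPGroup q Q ∧ ¬ q ∣ Q.index ∧ B ≤ Q ∧
      M.map π ≤ Q.map π := by
    obtain ⟨Q, hBQ⟩ := hBp.exists_le_sylow
    refine ⟨Q, Q.2, Q.not_dvd_index, hBQ, ?_⟩
    set Q2 : Sylow q (G ⧸ K) := Q.mapSurjective (QuotientGroup.mk'_surjective K) with hQ2
    have hn : (M.map π).Normal := hMn.map π (QuotientGroup.mk'_surjective K)
    have h1 : IsPGroup q (M.map π ⊔ (Q2 : Subgroup (G ⧸ K)) : Subgroup (G ⧸ K)) :=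
      hMp.to_sup_of_normal_left Q2.2
    have h2 := Q2.3 h1 le_sup_right
    have h3 : M.map π ≤ M.map π ⊔ (Q2 : Subgroup (G ⧸ K)) := le_sup_left
    rw [h2] at h3
    exact h3
  have := Fintype.ofFinite Q
  have hBQ' : B.relIndex Q ≤ q ^ b := by
    obtain ⟨n, hn⟩ := IsPGroup.iff_card.1 hQp
    have h1 : B.relIndex Q ∣ q ^ n := by
      rw [← hn, relIndex]
      exact index_dvd_card _
    obtain ⟨j, -, hj⟩ := (Nat.dvd_prime_pow hq).1 h1
    have h2 : B.relIndex Q * Q.index = B.relIndex T * T.index := by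
      rw [relIndex_mul_index hBQ, relIndex_mul_index hBT]
    have h3 : ¬ q ∣ B.relIndex T := by
      have h4 : B.subgroupOf T = (S : Subgroup T) :=
        comap_map_eq_self_of_injective T.subtype_injective _
      rw [relIndex, h4]
      exact S.not_dvd_index
    have h4 : q ^ j ∣ B.relIndex T * g := by
      rw [← hT1, ← h2, hj]
      exact dvd_mul_right _ _
    have h5 : q ^ j ∣ g :=
      (Nat.Coprime.pow_left _ ((hq.coprime_iff_not_dvd).2 h3)).dvd_of_dvd_mul_left h4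
    have h6 : j ≤ b := by
      by_contra hjb
      exact hgb ((pow_dvd_pow q (by omega)).trans h5)
    rw [hj]
    exact Nat.pow_le_pow_right hq.pos h6
  have hMQab : ⁅M.subgroupOf Q, M.subgroupOf Q⁆ = ⊥ := by
    refine one_degree (G := Q) (M.subgroupOf Q) (f := q ^ b) fun κ hκ hov => ?_
    have h1 := Nat.le_of_dvd (charDegree_pos hκ) (dvd_of_sylow hq Q hQi h hκ hov)
    obtain ⟨k, hk, hk'⟩ := OddOrderCharacters.PF9.CliffGen.degree_le_index (B.subgroupOf Q) hκ
      (by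
        have h2 : ⁅B.subgroupOf Q, B.subgroupOf Q⁆ = ⊥ := by
          rw [eq_bot_iff, commutator_le]
          intro a ha b hb
          exact Subtype.ext (hBab a (mem_subgroupOf.1 ha) b (mem_subgroupOf.1 hb))
        intro y hy
        rw [h2, mem_bot] at hy
        rw [hy])
    have h3 : charDegree κ = k := charDegree_of_eq hk
    have h4 : (B.subgroupOf Q).index = B.relIndex Q := rfl
    rw [h3] at h1 ⊢
    omega
  apply hnab
  rw [hL, commutator_le]
  intro a ha b hb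
  obtain ⟨x', hx', hxa⟩ := hMQ ⟨a, ha, rfl⟩
  obtain ⟨y', hy', hyb⟩ := hMQ ⟨b, hb, rfl⟩
  have hKM : K ≤ M := Op_le q M
  have hxM : x' ∈ M := by
    have h1 : x'⁻¹ * a ∈ K := QuotientGroup.eq.1 hxa
    have h2 := M.mul_mem ha (M.inv_mem (hKM h1))
    have e : a * (x'⁻¹ * a)⁻¹ = x' := by group
    rwa [e] at h2
  have hyM : y' ∈ M := by
    have h1 : y'⁻¹ * b ∈ K := QuotientGroup.eq.1 hyb
    have h2 := M.mul_mem hb (M.inv_mem (hKM h1))
    have e : b * (y'⁻¹ * b)⁻¹ = y' := by group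
    rwa [e] at h2
  have h1 : (⟨x', hx'⟩ : Q) * ⟨y', hy'⟩ * (⟨x', hx'⟩ : Q)⁻¹ * (⟨y', hy'⟩ : Q)⁻¹ ∈
      ⁅M.subgroupOf Q, M.subgroupOf Q⁆ :=
    commutator_mem_commutator (mem_subgroupOf.2 hxM) (mem_subgroupOf.2 hyM)
  rw [hMQab, mem_bot] at h1
  have h2 : x' * y' * x'⁻¹ * y'⁻¹ = 1 := congrArg Subtype.val h1
  have h3 : π (a * b * a⁻¹ * b⁻¹) = 1 := by
    rw [map_mul, map_mul, map_mul, map_inv, map_inv, ← hxa, ← hyb, ← map_inv, ← map_inv,
      ← map_mul, ← map_mul, ← map_mul, h2, map_one]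
  exact (QuotientGroup.eq_one_iff _).1 h3

end Cfsg.Agent.H598.FourFour
end

-- part: H598/FourT2
section
/-!
# Relative degrees: two degrees

If the irreducible characters of the finite solvable group `G` that are nontrivial on the normal
subgroup `M` have at most two degrees, then `M'' = 1`.
-/

set_option autoImplicit false

namespace Cfsg.Agent.H598.FourT2

open Cfsg Cfsg.Agent Cfsg.Agent.Characters Cfsg.Agent.Characters.Core
open Cfsg.Agent.H597.Base Cfsg.Agent.H598.FourCore Cfsg.Agent.H598.FourUtil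
open Cfsg.Agent.H598.FourRel Cfsg.Agent.H598.FourTwo Cfsg.Agent.H598.FourThree
open Cfsg.Agent.H598.FourFour Subgroup
open Cfsg.Agent.Blocks.Basic (charDegree_of_eq irr_one_eq_charDegree charDegree_pos)
open Cfsg.Agent.H597.RelThompson (Op Op_le Op_normal)
open scoped ComplexConjugate

universe u

theorem charDegree_comp_mk {G : Type u} [Group G] [Finite G] (R : Subgroup G) [R.Normal]
    {χ : G ⧸ R → ℂ} (hχ : IsIrrCharacter (G ⧸ R) χ) :
    charDegree (χ ∘ QuotientGroup.mk' R) = charDegree χ := by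
  apply charDegree_of_eq
  rw [← irr_one_eq_charDegree hχ]
  rfl

theorem two_degrees_aux (n : ℕ) : ∀ (G : Type u) [Group G] [Finite G] [Group.IsSolvable G],
    Nat.card G = n → ∀ (M : Subgroup G) [M.Normal] (f g : ℕ), f ≤ g →
      (∀ χ : G → ℂ, IsIrrCharacter G χ → Ov M χ → charDegree χ = f ∨ charDegree χ = g) →
      ⁅⁅M, M⁆, ⁅M, M⁆⁆ = ⊥ := by
  classical
  induction n using Nat.strong_induction_on with
  | _ n ih =>
  intro G _ _ _ hn M hM f g hfg h
  by_contra hXb
  have := Fintype.ofFinite G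
  set X := ⁅⁅M, M⁆, ⁅M, M⁆⁆ with hX
  have hLM : ⁅M, M⁆ ≤ M := commutator_le_left M M
  have hXL : X ≤ ⁅M, M⁆ := commutator_le_left _ _
  have hXM : X ≤ M := hXL.trans hLM
  have hovM : ∀ χ : G → ℂ, Ov X χ → Ov M χ := by
    rintro χ ⟨x, hx, hne⟩
    exact ⟨x, hXM hx, hne⟩
  have hmin : ∀ R : Subgroup G, R.Normal → R ≠ ⊥ → X ≤ R := by
    intro R hR hRb
    have hcard : Nat.card (G ⧸ R) < n := by
      rw [← hn, ← R.index_mul_card, ← Subgroup.index]
      have h1 : 1 < Nat.card R := by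
        rw [Subgroup.one_lt_card_iff_ne_bot]
        exact hRb
      have h2 : 0 < R.index := Nat.pos_of_ne_zero index_ne_zero_of_finite
      nlinarith
    have h1 := ih _ hcard (G ⧸ R) rfl (M.map (QuotientGroup.mk' R)) f g hfg (by
      intro χ hχ hov
      have h2 := isIrr_comp (QuotientGroup.mk' R) (QuotientGroup.mk'_surjective R) hχ
      rw [← charDegree_comp_mk R hχ]
      refine h _ h2 ?_
      obtain ⟨_, ⟨x, hx, rfl⟩, hne⟩ := hov
      exact ⟨x, hx, hne⟩)
    rw [← map_commutator, ← map_commutator, Subgroup.map_eq_bot_iff, QuotientGroup.ker_mk'] at h1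
    exact h1
  have hfg' : f < g := by
    refine lt_of_le_of_ne hfg fun heq => hXb ?_
    have h1 : ⁅M, M⁆ = ⊥ := one_degree M (f := g) fun χ hχ hov => by
      rcases h χ hχ hov with h | h
      · rw [h, heq]
      · exact h
    rw [hX, h1]
    simp
  have hg : ∀ χ : G → ℂ, IsIrrCharacter G χ → Ov X χ → charDegree χ = g := fun χ hχ hov =>
    (h χ hχ (hovM χ hov)).resolve_left (step_one M h hfg hχ hov)
  obtain ⟨q, a, hq, hqf, hqg, hnab⟩ := step_two M h hfg' hXb hg
  have := Fact.mk hq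
  -- `g` is a degree
  have hg0 : g ≠ 0 := by
    omega
  obtain ⟨b, hb1, hb2⟩ := exists_exact hq hg0
  have hba : b ≤ a := by
    by_contra hcon
    exact hqg ((pow_dvd_pow q (by omega)).trans hb1)
  have hdiv : ∀ χ : G → ℂ, IsIrrCharacter G χ → Ov M χ → q ^ b ∣ charDegree χ := by
    intro χ hχ hov
    rcases h χ hχ hov with h | h
    · rw [h]
      exact (pow_dvd_pow q (by omega)).trans hqf
    · rw [h]
      exact hb1
  set K := Op q M with hK
  have hKn : K.Normal := Op_normal q M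
  by_cases hKb : K = ⊥
  · have hMp : IsPGroup q M := by
      obtain ⟨k, hk⟩ := H597.RelThompson.relIndex_Op q M
      rw [← hK, hKb, relIndex_bot_left] at hk
      exact IsPGroup.of_card hk
    exact step_four_a M X hXL hXb hq hMp hdiv hg hb2
  · have hXK : X ≤ K := hmin K hKn hKb
    have h3 : ∀ α : M → ℂ, IsIrrCharacter M α → Ov (X.subgroupOf M) α → q ∣ charDegree α :=
      fun α hα hov => step_three M hq X hXK hg hnab hα hov
    obtain ⟨x, hx, hx1⟩ : ∃ x ∈ X, x ≠ 1 := by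
      by_contra hcon
      push Not at hcon
      exact hXb ((Subgroup.eq_bot_iff_forall _).2 hcon)
    obtain ⟨χ, hχ, hχx⟩ : ∃ χ : G → ℂ, IsIrrCharacter G χ ∧ χ x ≠ χ 1 := by
      by_contra hcon
      push Not at hcon
      exact hx1 (eq_one_of_forall hcon)
    have hqg' : q ∣ g := by
      rw [← hg χ hχ ⟨x, hx, hχx⟩]
      obtain ⟨α, hα, ⟨c, hc, -⟩, hαx⟩ := H597.ThreeDegB.exists_under_ne M hχ
        (x := ⟨x, hXM hx⟩) hχx
      rw [hc]
      exact Dvd.dvd.mul_right (h3 α hα ⟨⟨x, hXM hx⟩, mem_subgroupOf.2 hx, hαx⟩) _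
    have hqf' : q ∣ f := (dvd_pow_self q (Nat.succ_ne_zero a)).trans hqf
    have hcop := H597.RelThompson.card_Op_coprime q hq M (fun χ hχ hov => by
      obtain ⟨y, hy, hne⟩ := hov
      rcases h χ hχ ⟨y, hLM hy, hne⟩ with h | h <;> rw [h] <;> assumption)
    exact step_four_b M X hX hXb hmin hq hdiv hg hb2 hcop hXK hnab

/-- **T2.** -/
theorem two_degrees {G : Type u} [Group G] [Finite G] [Group.IsSolvable G] (M : Subgroup G)
    [M.Normal] {f g : ℕ}
    (h : ∀ χ : G → ℂ, IsIrrCharacter G χ → Ov M χ → charDegree χ = f ∨ charDegree χ = g) :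
    ⁅⁅M, M⁆, ⁅M, M⁆⁆ = ⊥ := by
  rcases le_total f g with hfg | hfg
  · exact two_degrees_aux _ G rfl M f g hfg h
  · exact two_degrees_aux _ G rfl M g f hfg fun χ hχ hov => (h χ hχ hov).symm

end Cfsg.Agent.H598.FourT2
end

-- part: H598/FourFrob
section
/-!
# Four character degrees: the Frobenius case
-/

set_option autoImplicit false

namespace Cfsg.Agent.H598.FourFrob

open Cfsg Cfsg.Agent Cfsg.Agent.Characters Cfsg.Agent.Characters.Core
open Cfsg.Agent.H597.Base Cfsg.Agent.H598.FourCore Cfsg.Agent.H598.FourRel Subgroup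
open Cfsg.Agent.H598.FourT2 Cfsg.Agent.H597.FrobA
open Cfsg.Agent.Blocks.Basic (charDegree_of_eq irr_one_eq_charDegree charDegree_pos)
open scoped ComplexConjugate

universe u

variable {G : Type u} [Group G]

theorem derivedSeries_le_map (N : Subgroup G) (hN : commutator G ≤ N) (k : ℕ) :
    derivedSeries G (k + 1) ≤ (derivedSeries N k).map N.subtype := by
  induction k with
  | zero =>
    rw [derivedSeries_zero, ← MonoidHom.range_eq_map, range_subtype, zero_add, derivedSeries_one]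
    exact hN
  | succ k ih =>
    show ⁅derivedSeries G (k + 1), derivedSeries G (k + 1)⁆ ≤
      (⁅derivedSeries N k, derivedSeries N k⁆).map N.subtype
    rw [map_commutator]
    exact commutator_mono ih ih

theorem derived_four_of_le (N : Subgroup G) (hN : commutator G ≤ N) (h : derivedSeries N 3 = ⊥) :
    derivedSeries G 4 = ⊥ := by
  have h1 := derivedSeries_le_map N hN 3
  rw [h, Subgroup.map_bot] at h1
  exact le_bot_iff.1 h1

theorem derived_four_of_comm (N : Subgroup G) (hN : commutator G ≤ N)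
    (h : ⁅⁅⁅N, N⁆, ⁅N, N⁆⁆, ⁅⁅N, N⁆, ⁅N, N⁆⁆⁆ = ⊥) : derivedSeries G 4 = ⊥ := by
  have h1 : derivedSeries G 1 ≤ N := by rw [derivedSeries_one]; exact hN
  have h2 : derivedSeries G 2 ≤ ⁅N, N⁆ := by
    rw [derivedSeries_succ]; exact commutator_mono h1 h1
  have h3 : derivedSeries G 3 ≤ ⁅⁅N, N⁆, ⁅N, N⁆⁆ := by
    rw [derivedSeries_succ]; exact commutator_mono h2 h2
  rw [eq_bot_iff, ← h, derivedSeries_succ]
  exact commutator_mono h3 h3

/-- The Frobenius case. -/
theorem case_frob_aux [Finite G] [Group.IsSolvable G] {r x y : ℕ} (hr : r.Prime)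
    (K N : Subgroup G) [K.Normal] [N.Normal] (hF : FrobQ K N r)
    (hcd : ∀ χ : G → ℂ, IsIrrCharacter G χ →
      charDegree χ = 1 ∨ charDegree χ = N.index ∨ charDegree χ = x ∨ charDegree χ = y)
    (hP : ∀ p : ℕ, p.Prime → ∃ χ : G → ℂ, IsIrrCharacter G χ ∧ charDegree χ ≠ 1 ∧
      ¬ p ∣ charDegree χ) (hxy : r ∣ x → r ∣ y) : derivedSeries G 4 = ⊥ := by
  classical
  have := Fintype.ofFinite G
  have := Fintype.ofFinite N
  have hf1 : 1 < N.index := by
    have h1 : N.index ≠ 0 := index_ne_zero_of_finite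
    have h2 : N.index ≠ 1 := fun h => hF.ne_top (index_eq_one.1 h)
    omega
  obtain ⟨k, hk⟩ := hF.rel
  have hKN : K.subgroupOf N ≠ ⊤ := by
    rw [Ne, subgroupOf_eq_top]
    exact hF.lt.not_ge
  -- multiplication by the index
  have hmul : ∀ ψ : N → ℂ, IsIrrCharacter N ψ → ¬ r ∣ charDegree ψ →
      ∃ χ : G → ℂ, IsIrrCharacter G χ ∧ charDegree χ = N.index * charDegree ψ := by
    intro ψ hψ hrd
    have h1 : ∃ n : N, (n : G) ∉ K ∧ ψ n ≠ 0 := by
      by_contra hcon
      push Not at hcon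
      exact hrd (H597.FrobC.dvd_of_vanish hr (K.subgroupOf N) hk hKN hψ
        (fun n hn => hcon n (fun h => hn (mem_subgroupOf.2 h))))
    obtain ⟨n, hn, hne⟩ := h1
    exact H597.FrobB.exists_degree_mul hF hψ hn hne
  have hr1 : ¬ r ∣ 1 := fun h => hr.one_lt.ne' (Nat.dvd_one.1 h)
  -- the degrees of `N` prime to `r`
  have hprime : ∀ ψ : N → ℂ, IsIrrCharacter N ψ → ¬ r ∣ charDegree ψ → charDegree ψ ≠ 1 →
      N.index * charDegree ψ = x ∨ N.index * charDegree ψ = y := by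
    intro ψ hψ hrd hψ1
    obtain ⟨χ, hχ, hd⟩ := hmul ψ hψ hrd
    have hpos := charDegree_pos hψ
    rcases hcd χ hχ with h | h | h | h
    · rw [hd] at h
      nlinarith
    · exfalso
      apply hψ1
      rw [hd] at h
      exact Nat.eq_of_mul_eq_mul_left (by omega) (h.trans (mul_one _).symm)
    · exact Or.inl (hd ▸ h)
    · exact Or.inr (hd ▸ h)
  -- the characters of `G` over a character of `N` of degree divisible by `r`
  have hdiv : ∀ (ψ : N → ℂ) (χ : G → ℂ), IsIrrCharacter N ψ → IsIrrCharacter G χ →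
      r ∣ charDegree ψ → (∃ c, charDegree χ = charDegree ψ * c ∧ c ∣ N.index) →
      (charDegree χ = x ∧ r ∣ x) ∨ (charDegree χ = y ∧ r ∣ y) := by
    rintro ψ χ hψ hχ hrd ⟨c, hc, -⟩
    have h1 : r ∣ charDegree χ := hc ▸ Dvd.dvd.mul_right hrd c
    rcases hcd χ hχ with h | h | h | h
    · exact absurd (h ▸ h1) hr1
    · exact absurd (h ▸ h1) hF.idx
    · exact Or.inl ⟨h, h ▸ h1⟩
    · exact Or.inr ⟨h, h ▸ h1⟩
  have hunder : ∀ χ : G → ℂ, IsIrrCharacter G χ → Ov ⁅N, N⁆ χ → ∃ ψ : N → ℂ, IsIrrCharacter N ψ ∧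
      charDegree ψ ≠ 1 ∧ ∃ c, charDegree χ = charDegree ψ * c ∧ c ∣ N.index := by
    rintro χ hχ ⟨z, hz, hne⟩
    have hzN : z ∈ N := commutator_le_left N N hz
    obtain ⟨ψ, hψ, hc, hψz⟩ := H597.ThreeDegB.exists_under_ne N hχ (x := ⟨z, hzN⟩) hne
    refine ⟨ψ, hψ, fun h1 => hψz ?_, hc⟩
    exact H597.Taketa.commutator_le_ker_of_linear hψ h1 _ ((H597.IndexP.mem_commutator_iff N).2 hz)
  by_cases hry : r ∣ y
  swap
  · -- neither is divisible by `r`
    have hrx : ¬ r ∣ x := fun h => hry (hxy h)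
    refine derived_four_of_le N hF.le (H597.ThreeDegB.solvable_case inferInstance (x / N.index)
      (y / N.index) fun ψ hψ => ?_)
    by_cases hψ1 : charDegree ψ = 1
    · exact Or.inl hψ1
    right
    have hrd : ¬ r ∣ charDegree ψ := by
      intro hrd
      obtain ⟨χ, hχ, hc, -⟩ := H597.ThreeDegB.exists_over N hψ
      rcases hdiv ψ χ hψ hχ hrd hc with h | h
      · exact hrx h.2
      · exact hry h.2
    rcases hprime ψ hψ hrd hψ1 with h | h
    · left
      rw [← h, Nat.mul_div_cancel_left _ (by omega)]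
    · right
      rw [← h, Nat.mul_div_cancel_left _ (by omega)]
  by_cases hrx : r ∣ x
  · -- both divisible by `r`
    apply derived_four_of_comm N hF.le
    refine two_degrees ⁅N, N⁆ (f := x) (g := y) fun χ hχ hov => ?_
    obtain ⟨ψ, hψ, hψ1, hc⟩ := hunder χ hχ hov
    have hrd : r ∣ charDegree ψ := by
      by_contra hrd
      rcases hprime ψ hψ hrd hψ1 with h | h
      · rw [← h] at hrx
        rcases hr.dvd_mul.1 hrx with h | h
        · exact hF.idx h
        · exact hrd h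
      · rw [← h] at hry
        rcases hr.dvd_mul.1 hry with h | h
        · exact hF.idx h
        · exact hrd h
    rcases hdiv ψ χ hψ hχ hrd hc with h | h
    · exact Or.inl h.1
    · exact Or.inr h.1
  -- only `y` divisible by `r`
  by_cases hall : ∀ ψ : N → ℂ, IsIrrCharacter N ψ → charDegree ψ ≠ 1 → r ∣ charDegree ψ
  · apply derived_four_of_comm N hF.le
    have h1 : ⁅⁅N, N⁆, ⁅N, N⁆⁆ = ⊥ := by
      refine one_degree ⁅N, N⁆ (f := y) fun χ hχ hov => ?_
      obtain ⟨ψ, hψ, hψ1, hc⟩ := hunder χ hχ hov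
      rcases hdiv ψ χ hψ hχ (hall ψ hψ hψ1) hc with h | h
      · exact absurd h.2 hrx
      · exact h.1
    rw [h1]
    simp
  push Not at hall
  obtain ⟨ψ₀, hψ₀, hψ₀1, hψ₀r⟩ := hall
  have hnoty : ∀ ψ : N → ℂ, ¬ r ∣ charDegree ψ → N.index * charDegree ψ ≠ y := by
    intro ψ hrd h
    rw [← h] at hry
    rcases hr.dvd_mul.1 hry with h | h
    · exact hF.idx h
    · exact hrd h
  have hx : N.index * charDegree ψ₀ = x :=
    (hprime ψ₀ hψ₀ hψ₀r hψ₀1).resolve_right (hnoty ψ₀ hψ₀r)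
  have hcop : Nat.Coprime N.index y := by
    by_contra hcon
    obtain ⟨p, hp, hpd⟩ := Nat.exists_prime_and_dvd (n := Nat.gcd N.index y) hcon
    obtain ⟨χ, hχ, hχ1, hχp⟩ := hP p hp
    have hpN : p ∣ N.index := hpd.trans (Nat.gcd_dvd_left _ _)
    have hpy : p ∣ y := hpd.trans (Nat.gcd_dvd_right _ _)
    rcases hcd χ hχ with h | h | h | h
    · exact hχ1 h
    · exact hχp (h ▸ hpN)
    · exact hχp (h ▸ hx ▸ Dvd.dvd.mul_right hpN _)
    · exact hχp (h ▸ hpy)
  refine derived_four_of_le N hF.le (H597.ThreeDegB.solvable_case inferInstance (x / N.index) y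
    fun ψ hψ => ?_)
  by_cases hψ1 : charDegree ψ = 1
  · exact Or.inl hψ1
  right
  by_cases hrd : r ∣ charDegree ψ
  · right
    obtain ⟨χ, hχ, hc, -⟩ := H597.ThreeDegB.exists_over N hψ
    have h1 : charDegree χ = y := by
      rcases hdiv ψ χ hψ hχ hrd hc with h | h
      · exact absurd h.2 hrx
      · exact h.1
    obtain ⟨c, hc1, hc2⟩ := hc
    have h2 : c ∣ y := by
      rw [← h1, hc1]
      exact dvd_mul_left _ _
    have h3 : c = 1 := Nat.eq_one_of_dvd_coprimes hcop hc2 h2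
    rw [← h1, hc1, h3, mul_one]
  · left
    have h1 := (hprime ψ hψ hrd hψ1).resolve_right (hnoty ψ hrd)
    rw [← h1, Nat.mul_div_cancel_left _ (by omega)]

/-- The Frobenius case. -/
theorem case_frob [Finite G] [Group.IsSolvable G] {r x y : ℕ} (hr : r.Prime)
    (K N : Subgroup G) [K.Normal] [N.Normal] (hF : FrobQ K N r)
    (hcd : ∀ χ : G → ℂ, IsIrrCharacter G χ →
      charDegree χ = 1 ∨ charDegree χ = N.index ∨ charDegree χ = x ∨ charDegree χ = y)
    (hP : ∀ p : ℕ, p.Prime → ∃ χ : G → ℂ, IsIrrCharacter G χ ∧ charDegree χ ≠ 1 ∧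
      ¬ p ∣ charDegree χ) : derivedSeries G 4 = ⊥ := by
  by_cases hy : r ∣ y
  · exact case_frob_aux hr K N hF hcd hP fun _ => hy
  · refine case_frob_aux (x := y) (y := x) hr K N hF (fun χ hχ => ?_) hP fun h => absurd h hy
    rcases hcd χ hχ with h | h | h | h
    · exact Or.inl h
    · exact Or.inr (Or.inl h)
    · exact Or.inr (Or.inr (Or.inr h))
    · exact Or.inr (Or.inr (Or.inl h))

end Cfsg.Agent.H598.FourFrob
end

-- part: H598/FourPrime
section
/-!
# Four character degrees: a prime dividing all nonlinear degrees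
-/

set_option autoImplicit false

namespace Cfsg.Agent.H598.FourPrime

open Cfsg Cfsg.Agent Cfsg.Agent.Characters Cfsg.Agent.Characters.Core
open Cfsg.Agent.H597.Base Cfsg.Agent.H598.FourCore Cfsg.Agent.H598.FourRel Subgroup
open Cfsg.Agent.H598.FourT2 Cfsg.Agent.H598.FourFrob
open Cfsg.Agent.Blocks.Basic (charDegree_of_eq irr_one_eq_charDegree charDegree_pos)
open scoped ComplexConjugate

universe u

variable {G : Type u} [Group G]

theorem mem_cds {χ : G → ℂ} (hχ : IsIrrCharacter G χ) : charDegree χ ∈ charDegrees G :=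
  ⟨⟨χ, hχ⟩, rfl⟩

theorem finite_cds [Finite G] : (charDegrees G).Finite := by
  have := finite_irr (G := G)
  exact Set.finite_range fun χ : IrrCharacter G => charDegree (χ : G → ℂ)

theorem one_mem_cds [Finite G] : 1 ∈ charDegrees G := by
  have h : charDegree (1 : G → ℂ) = 1 := charDegree_of_eq (by simp)
  rw [← h]
  exact mem_cds isIrr_one

/-- Derived length at most the number of degrees, when this number is at most three. -/
theorem dl_le_three [Finite G] [Group.IsSolvable G] {n : ℕ} (hn : n ≤ 3)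
    (h : (charDegrees G).ncard ≤ n) : derivedSeries G n = ⊥ := by
  classical
  have hpos : 0 < (charDegrees G).ncard :=
    (Set.ncard_pos finite_cds).2 ⟨1, one_mem_cds⟩
  have hrest : (charDegrees G \ {1}).ncard ≤ n - 1 := by
    have := Set.ncard_sdiff_singleton_of_mem (one_mem_cds (G := G))
    omega
  have hfin : (charDegrees G \ {1}).Finite := finite_cds.subset Set.sdiff_subset
  have hcases : n = 1 ∨ n = 2 ∨ n = 3 := by omega
  rcases hcases with rfl | rfl | rfl
  · have h1 : charDegrees G \ {1} = ∅ := (Set.ncard_eq_zero hfin).1 (by omega)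
    rw [derivedSeries_one]
    apply H597.ThreeDegA.commutator_eq_bot
    intro χ hχ
    by_contra hne
    have h2 : charDegree χ ∈ charDegrees G \ {1} := ⟨mem_cds hχ, hne⟩
    rw [h1] at h2
    exact h2
  · have h1 : ∀ a ∈ charDegrees G \ {1}, ∀ b ∈ charDegrees G \ {1}, a = b :=
      (Set.ncard_le_one hfin).1 hrest
    by_cases hex : ∃ m, m ∈ charDegrees G \ {1}
    · obtain ⟨m, hm⟩ := hex
      apply H597.ThreeDegA.derived_two m
      intro χ hχ
      by_cases hne : charDegree χ = 1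
      · exact Or.inl hne
      · exact Or.inr (h1 _ ⟨mem_cds hχ, hne⟩ _ hm)
    · push Not at hex
      apply H597.ThreeDegA.derived_two 1
      intro χ hχ
      by_contra hne
      push Not at hne
      exact hex _ ⟨mem_cds hχ, hne.1⟩
  · by_cases hex : ∃ m, m ∈ charDegrees G \ {1}
    · obtain ⟨m, hm⟩ := hex
      by_cases hex' : ∃ m', m' ∈ charDegrees G \ {1} ∧ m' ≠ m
      · obtain ⟨m', hm', hne'⟩ := hex'
        apply H597.ThreeDegB.solvable_case inferInstance m m'
        intro χ hχ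
        by_contra hne
        push Not at hne
        have h2 : ({m, m', charDegree χ} : Finset ℕ).card = 3 := by
          rw [Finset.card_eq_three]
          exact ⟨m, m', charDegree χ, hne'.symm, hne.2.1.symm, hne.2.2.symm, rfl⟩
        have h3 : (({m, m', charDegree χ} : Finset ℕ) : Set ℕ) ⊆ charDegrees G \ {1} := by
          intro z hz
          simp only [Finset.coe_insert, Finset.coe_singleton, Set.mem_insert_iff,
            Set.mem_singleton_iff] at hz
          rcases hz with rfl | rfl | rfl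
          · exact hm
          · exact hm'
          · exact ⟨mem_cds hχ, hne.1⟩
        have h4 := Set.ncard_le_ncard h3 hfin
        rw [Set.ncard_coe_finset, h2] at h4
        omega
      · push Not at hex'
        apply H597.ThreeDegB.solvable_case inferInstance m m
        intro χ hχ
        by_cases hne : charDegree χ = 1
        · exact Or.inl hne
        · exact Or.inr (Or.inl (hex' _ ⟨mem_cds hχ, hne⟩))
    · push Not at hex
      apply H597.ThreeDegB.solvable_case inferInstance 1 1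
      intro χ hχ
      by_contra hne
      push Not at hne
      exact hex _ ⟨mem_cds hχ, hne.1⟩

theorem derivedSeries_le_map' (N : Subgroup G) {s : ℕ} (hs : derivedSeries G s ≤ ⁅N, N⁆) (k : ℕ) :
    derivedSeries G (s + k) ≤ (derivedSeries N (k + 1)).map N.subtype := by
  induction k with
  | zero =>
    rw [zero_add, add_zero, derivedSeries_one, _root_.commutator_def, map_commutator,
      ← MonoidHom.range_eq_map, range_subtype]
    exact hs
  | succ k ih =>
    show ⁅derivedSeries G (s + k), derivedSeries G (s + k)⁆ ≤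
      (⁅derivedSeries N (k + 1), derivedSeries N (k + 1)⁆).map N.subtype
    rw [map_commutator]
    exact commutator_mono ih ih

/-- The case where a prime divides all nonlinear degrees. -/
theorem case_p1 [Finite G] [Group.IsSolvable G] {p : ℕ} (hp : p.Prime)
    (hdiv : ∀ χ : G → ℂ, IsIrrCharacter G χ → charDegree χ ≠ 1 → p ∣ charDegree χ)
    (hcd : (charDegrees G).ncard ≤ 4)
    (ih : ∀ N : Subgroup G, N ≠ ⊤ → (charDegrees N).ncard ≤ 4 → derivedSeries N 4 = ⊥) :
    derivedSeries G 4 = ⊥ := by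
  classical
  have := Fact.mk hp
  have := Fintype.ofFinite G
  obtain ⟨N, hN, hNp, k, hk⟩ := Cfsg.Agent.S4456.result p hp (fun χ hχ => hdiv _ χ.2 hχ)
  by_cases hNt : N = ⊤
  · -- `G` is abelian
    have h1 : commutator G = ⊥ := by
      apply H597.ThreeDegA.commutator_eq_bot
      intro χ hχ
      by_contra hne
      have h2 := (hdiv χ hχ hne).trans (H597.Degrees.charDegree_dvd_card hχ)
      rw [hNt, card_top] at hNp
      exact hp.one_lt.ne' (Nat.Coprime.eq_one_of_dvd hNp.symm h2)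
    rw [eq_bot_iff, ← h1, ← derivedSeries_one]
    exact derivedSeries_antitone G (by norm_num)
  set Pp : Set ℕ := {n | n ∈ charDegrees G ∧ ∃ j, n = p ^ j} with hPp
  have hPsub : Pp ⊆ charDegrees G := fun n hn => hn.1
  have hPfin : Pp.Finite := finite_cds.subset hPsub
  have hs1 : 1 ≤ Pp.ncard := (Set.ncard_pos hPfin).2 ⟨1, one_mem_cds, 0, by rw [pow_zero]⟩
  have hRfin : (charDegrees G \ Pp).Finite := finite_cds.subset Set.sdiff_subset
  have hsum : (charDegrees G \ Pp).ncard + Pp.ncard ≤ 4 := by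
    rw [Set.ncard_sdiff_add_ncard_of_subset hPsub finite_cds]
    exact hcd
  -- the degrees of `N`
  have hNc : (charDegrees N).ncard ≤ (charDegrees G \ Pp).ncard + 1 := by
    have h1 : charDegrees N \ {1} ⊆ (fun n => n / p ^ n.factorization p) '' (charDegrees G \ Pp) := by
      rintro d ⟨⟨ψ, rfl⟩, hd⟩
      obtain ⟨χ, hχ, ⟨c, hc, hc'⟩, -⟩ := H597.ThreeDegB.exists_over N ψ.2
      rw [hk] at hc'
      obtain ⟨i, -, rfl⟩ := (Nat.dvd_prime_pow hp).1 hc'
      have h2 : (charDegree (ψ : N → ℂ)).Coprime p :=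
        Nat.Coprime.coprime_dvd_left (H597.Degrees.charDegree_dvd_card ψ.2) hNp
      have h3 : ¬ p ∣ charDegree (ψ : N → ℂ) := (hp.coprime_iff_not_dvd).1 h2.symm
      have hpos := charDegree_pos ψ.2
      refine ⟨charDegree χ, ⟨mem_cds hχ, ?_⟩, ?_⟩
      · rintro ⟨-, j, hj⟩
        apply hd
        have h4 : charDegree (ψ : N → ℂ) ∣ p ^ j := by
          rw [← hj, hc]
          exact dvd_mul_right _ _
        exact (Nat.Coprime.pow_right j h2).eq_one_of_dvd h4
      · have h4 : (charDegree χ).factorization p = i := by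
          rw [hc, Nat.factorization_mul hpos.ne' (pow_ne_zero _ hp.ne_zero), Finsupp.add_apply,
            Nat.factorization_eq_zero_of_not_dvd h3, zero_add, hp.factorization_pow,
            Finsupp.single_eq_same]
        show charDegree χ / p ^ (charDegree χ).factorization p = _
        rw [h4, hc, Nat.mul_div_cancel _ (pow_pos hp.pos i)]
    have h2 := (Set.ncard_le_ncard h1 (hRfin.image _)).trans (Set.ncard_image_le hRfin)
    have h3 := Set.ncard_sdiff_singleton_add_one (one_mem_cds (G := N)) finite_cds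
    omega
  -- the quotient
  have hG : derivedSeries G Pp.ncard ≤ ⁅N, N⁆ := by
    set π := QuotientGroup.mk' ⁅N, N⁆ with hπ
    have hπs : Function.Surjective π := QuotientGroup.mk'_surjective _
    have hNn : (N.map π).Normal := hN.map π hπs
    have hcomm : ∀ a ∈ N.map π, ∀ b ∈ N.map π, a * b = b * a := by
      rintro _ ⟨a, ha, rfl⟩ _ ⟨b, hb, rfl⟩
      have h1 : π (a * b * a⁻¹ * b⁻¹) = 1 :=
        (QuotientGroup.eq_one_iff _).2 (commutator_mem_commutator ha hb)
      rw [map_mul, map_mul, map_mul, map_inv, map_inv, mul_inv_eq_one, mul_inv_eq_iff_eq_mul] at h1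
      exact h1
    have hidx : (N.map π).index = p ^ k := by
      rw [← hk]
      apply Subgroup.index_map_eq N hπs
      rw [QuotientGroup.ker_mk']
      exact commutator_le_left N N
    have hnil : Group.IsNilpotent ((G ⧸ ⁅N, N⁆) ⧸ N.map π) :=
      (IsPGroup.of_card (p := p) (n := k) (by rw [← index_eq_card]; exact hidx)).isNilpotent
    have := Fintype.ofFinite (G ⧸ ⁅N, N⁆)
    have h1 : derivedSeries (G ⧸ ⁅N, N⁆) Pp.ncard = ⊥ := by
      apply H597.Taketa.derivedSeries_eq_bot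
      · intro χ hχ
        obtain ⟨H, f, -, hf⟩ := H597.Taketa.exists_linear_of_abelian_nilpotent (N.map π) hcomm hnil hχ
        exact ⟨H, f, hf⟩
      · have hsub : {n : ℕ | ∃ χ : IrrCharacter (G ⧸ ⁅N, N⁆),
            charDegree (χ : (G ⧸ ⁅N, N⁆) → ℂ) = n} ⊆ Pp := by
          rintro _ ⟨χ, rfl⟩
          refine ⟨?_, ?_⟩
          · rw [← charDegree_comp_mk _ χ.2]
            exact mem_cds (isIrr_comp _ hπs χ.2)
          · obtain ⟨ψ, hψ, ⟨c, hc, hc'⟩, -⟩ := H597.ThreeDegB.exists_under (N.map π) χ.2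
            have h2 : charDegree ψ = 1 := by
              apply charDegree_of_eq
              rw [H597.Taketa.irr_apply_one_of_comm hψ (fun a b =>
                Subtype.ext (hcomm a a.2 b b.2)), Nat.cast_one]
            rw [h2, one_mul] at hc
            rw [hidx] at hc'
            obtain ⟨i, -, hi⟩ := (Nat.dvd_prime_pow hp).1 hc'
            exact ⟨i, hc.trans hi⟩
        exact Set.ncard_le_ncard hsub hPfin
    rw [← map_derivedSeries_eq hπs, Subgroup.map_eq_bot_iff, QuotientGroup.ker_mk'] at h1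
    exact h1
  -- the normal complement
  have hNd : derivedSeries N (4 - Pp.ncard + 1) = ⊥ := by
    by_cases hs : Pp.ncard = 1
    · rw [hs]
      exact ih N hNt (by omega)
    · apply dl_le_three (by omega)
      omega
  have h1 := derivedSeries_le_map' N hG (4 - Pp.ncard)
  rw [hNd, Subgroup.map_bot, show Pp.ncard + (4 - Pp.ncard) = 4 by omega] at h1
  exact le_bot_iff.1 h1

end Cfsg.Agent.H598.FourPrime
end
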